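import Cfsg.Agent.Lib.Pres.SU.Rank1.Model
import Cfsg.Agent.Lib.Pres.FieldModule

/-!
Conditions on an element and a multiplier under which the conjugates of the element form a copy of
the group of root elements.
-/

set_option autoImplicit false

namespace CfsgLib.Pres.SU.Rank1

open Matrix Polynomial CfsgLib.Classical CfsgLib.Classical.Unitary
open scoped MatrixGroups commutatorElement

variable {F : Type*} [Field F] {σ : F →+* F} {p : ℕ} {X : Type*} [Group X]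

/-- The multiplier of the torus on the first parameter. -/
def mult (σ : F →+* F) (a : Fˣ) : F := σ a * σ a / a

theorem mult_ne_zero (σ : F →+* F) (a : Fˣ) : mult σ a ≠ 0 := by simp [mult]

theorem mult_mul (σ : F →+* F) (a b : Fˣ) : mult σ (a * b) = mult σ a * mult σ b := by
  simp only [mult, Units.val_mul, map_mul]
  have ha := a.ne_zero
  have hb := b.ne_zero
  field_simp

theorem mult_pow (σ : F →+* F) (a : Fˣ) (i : ℕ) : mult σ (a ^ i) = mult σ a ^ i := by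
  induction i with
  | zero => simp [mult]
  | succ i ih => rw [pow_succ, mult_mul, ih, pow_succ]

/-- The conjugates of an element by powers. -/
def conjs (h u : X) : Subgroup X := Subgroup.closure (Set.range fun i : ℕ => h ^ i * u * (h ^ i)⁻¹)

theorem conj_mem_conjs (h u : X) (i : ℕ) : h ^ i * u * (h ^ i)⁻¹ ∈ conjs h u :=
  Subgroup.subset_closure ⟨i, rfl⟩

theorem self_mem_conjs (h u : X) : u ∈ conjs h u := by simpa using conj_mem_conjs h u 0

theorem pow_conj_mem_conjs (h u : X) (k : ℕ) {w : X} (hw : w ∈ conjs h u) :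
    h ^ k * w * (h ^ k)⁻¹ ∈ conjs h u := by
  have : conjs h u ≤ (conjs h u).comap (MulAut.conj (h ^ k)).toMonoidHom := by
    refine (Subgroup.closure_le _).2 ?_
    rintro _ ⟨i, rfl⟩
    show h ^ k * (h ^ i * u * (h ^ i)⁻¹) * (h ^ k)⁻¹ ∈ conjs h u
    rw [FieldAdd.conj_pow]
    exact conj_mem_conjs h u _
  exact this hw

theorem exists_pow_eq_inv {h : X} {N : ℕ} (hN : 0 < N) (hord : h ^ N = 1) (k : ℕ) :
    ∃ m : ℕ, (h ^ k)⁻¹ = h ^ m := by
  refine ⟨(N - 1) * k, inv_eq_of_mul_eq_one_right ?_⟩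
  rw [← pow_add, show k + (N - 1) * k = N * k by
    obtain ⟨n, rfl⟩ := Nat.exists_eq_succ_of_ne_zero hN.ne'; simp [Nat.succ_mul, add_comm],
    pow_mul, hord, one_pow]

/-- The conditions. -/
structure Unip (σ : F →+* F) (p : ℕ) (X : Type*) [Group X] where
  hσ : ∀ x, σ (σ x) = x
  π : X →* HU σ
  u : X
  h : X
  z : F → X
  N : ℕ
  hN : 0 < N
  hord : h ^ N = 1
  ω : Fˣ
  hω : ∀ c : Fˣ, ∃ i : ℕ, ω ^ i = c
  hω' : ∀ t : F, σ t = t → t ≠ 0 → ∃ i : ℕ, t = ((ω : F) * σ ω) ^ i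
  δ : F
  hδ : σ δ = -δ
  hδ0 : δ ≠ 0
  x₀ : F
  y₀ : F
  hx₀ : x₀ ≠ 0
  πu : IsU (π u) x₀ y₀
  πh : π h = hH σ hσ ω
  z_add : ∀ s t, σ s = s → σ t = t → z s * z t = z (s + t)
  z_conj : ∀ t, σ t = t → h * z t * h⁻¹ = z ((ω : F) * σ ω * t)
  πz : IsU (π (z 1)) 0 δ
  z_mem : z 1 ∈ conjs h u
  comm : ∀ i : ℕ, Commute (z 1) (h ^ i * u * (h ^ i)⁻¹)
  ab : ∀ i : ℕ, ∃ t, σ t = t ∧ ⁅u, h ^ i * u * (h ^ i)⁻¹⁆ = z t
  pth : ∃ t, σ t = t ∧ u ^ p = z t
  M : ℤ[X]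
  hM : ∀ f : ℤ[X], aeval (mult σ ω) f = 0 → ∃ Q r : ℤ[X], f = C (p : ℤ) * r + Q * M
  mrel : ∃ t, σ t = t ∧ FieldModule.pw h u M = z t
  hsurj : ∀ t : F, ∃ f : ℤ[X], aeval (mult σ ω) f = t

namespace Unip

variable (D : Unip σ p X)

theorem fixN : σ ((D.ω : F) * σ D.ω) = (D.ω : F) * σ D.ω := by
  rw [map_mul, D.hσ, mul_comm]

theorem z_zero : D.z 0 = 1 := by
  have := D.z_add 0 0 (map_zero σ) (map_zero σ)
  rwa [add_zero, mul_eq_left] at this

theorem z_pow (i : ℕ) : D.z (((D.ω : F) * σ D.ω) ^ i) = D.h ^ i * D.z 1 * (D.h ^ i)⁻¹ := by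
  induction i with
  | zero => simp
  | succ i ih =>
    rw [pow_succ' ((D.ω : F) * σ D.ω) i, ← D.z_conj _ (by rw [map_pow, D.fixN]), ih, pow_succ']
    group

theorem z_shape {t : F} (ht : σ t = t) :
    D.z t = 1 ∧ t = 0 ∨ ∃ i : ℕ, t = ((D.ω : F) * σ D.ω) ^ i ∧
      D.z t = D.h ^ i * D.z 1 * (D.h ^ i)⁻¹ := by
  rcases eq_or_ne t 0 with rfl | ht0
  · exact Or.inl ⟨D.z_zero, rfl⟩
  · obtain ⟨i, rfl⟩ := D.hω' t ht ht0
    exact Or.inr ⟨i, rfl, D.z_pow i⟩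

/-- The subgroup of the central root elements. -/
def Zs : Subgroup X where
  carrier := {x | ∃ t, σ t = t ∧ x = D.z t}
  one_mem' := ⟨0, map_zero σ, D.z_zero.symm⟩
  mul_mem' := fun {a b} ⟨s, hs, ea⟩ ⟨t, ht, eb⟩ =>
    ⟨s + t, by rw [map_add, hs, ht], by rw [ea, eb, D.z_add s t hs ht]⟩
  inv_mem' := fun {a} ⟨s, hs, ea⟩ => ⟨-s, by rw [map_neg, hs], by
    rw [ea]
    refine inv_eq_of_mul_eq_one_right ?_
    rw [D.z_add s (-s) hs (by rw [map_neg, hs]), add_neg_cancel, D.z_zero]⟩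

theorem z_mem_conjs {t : F} (ht : σ t = t) : D.z t ∈ conjs D.h D.u := by
  rcases D.z_shape ht with ⟨e, -⟩ | ⟨i, -, e⟩ <;> rw [e]
  · exact one_mem _
  · exact pow_conj_mem_conjs _ _ _ D.z_mem

theorem z_comm_u {t : F} (ht : σ t = t) : Commute (D.z t) D.u := by
  rcases D.z_shape ht with ⟨e, -⟩ | ⟨i, -, e⟩ <;> rw [e]
  · exact Commute.one_left _
  · obtain ⟨m, hm⟩ := exists_pow_eq_inv D.hN D.hord i
    have := (D.comm m).map (MulAut.conj (D.h ^ i)).toMonoidHom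
    rw [← hm, inv_inv] at this
    simp only [MulEquiv.coe_toMonoidHom, MulAut.conj_apply] at this
    rwa [show D.h ^ i * ((D.h ^ i)⁻¹ * D.u * D.h ^ i) * (D.h ^ i)⁻¹ = D.u by group] at this

theorem isU_pi_z {t : F} (ht : σ t = t) : IsU (D.π (D.z t)) 0 (t * D.δ) := by
  rcases D.z_shape ht with ⟨e, rfl⟩ | ⟨i, hi, e⟩ <;> rw [e]
  · rw [map_one, zero_mul]; exact IsU.one
  · have := D.πz.conj D.hσ (D.ω ^ i)
    rw [map_mul, map_mul, map_inv, map_pow, D.πh, ← map_pow]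
    convert this using 1
    · simp
    · rw [hi, mul_pow, Units.val_pow_eq_pow_val, map_pow]

theorem exists_isU {w : X} (hw : w ∈ conjs D.h D.u) : ∃ x y, IsU (D.π w) x y := by
  refine Subgroup.closure_induction (p := fun w _ => ∃ x y, IsU (D.π w) x y) ?_ ?_ ?_ ?_ hw
  · rintro _ ⟨i, rfl⟩
    rw [map_mul, map_mul, map_inv, map_pow, D.πh, ← map_pow]
    exact ⟨_, _, D.πu.conj D.hσ _⟩
  · rw [map_one]; exact ⟨_, _, IsU.one⟩
  · rintro a b _ _ ⟨_, _, ha⟩ ⟨_, _, hb⟩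
    rw [map_mul]; exact ⟨_, _, ha.mul hb⟩
  · rintro a _ ⟨_, _, ha⟩
    rw [map_inv]; exact ⟨_, _, ha.inv D.hσ⟩

theorem u_mem_norm : D.u ∈ Subgroup.normalizer (D.Zs : Set X) := by
  rw [Subgroup.mem_normalizer_iff]
  intro x
  constructor
  · rintro ⟨t, ht, rfl⟩
    exact ⟨t, ht, by rw [← (D.z_comm_u ht).eq, mul_inv_cancel_right]⟩
  · rintro ⟨t, ht, e⟩
    refine ⟨t, ht, ?_⟩
    calc x = D.u⁻¹ * (D.u * x * D.u⁻¹) * D.u := by group
      _ = D.z t := by rw [e, mul_assoc, (D.z_comm_u ht).eq, inv_mul_cancel_left]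

theorem h_mem_norm : D.h ∈ Subgroup.normalizer (D.Zs : Set X) := by
  rw [Subgroup.mem_normalizer_iff]
  intro x
  constructor
  · rintro ⟨t, ht, rfl⟩
    exact ⟨_, by rw [map_mul σ _ t, D.fixN, ht], D.z_conj t ht⟩
  · rintro ⟨t, ht, e⟩
    have hne : (D.ω : F) * σ D.ω ≠ 0 := mul_ne_zero D.ω.ne_zero (by simp)
    have ht' : σ (t / ((D.ω : F) * σ D.ω)) = t / ((D.ω : F) * σ D.ω) := by
      rw [map_div₀, D.fixN, ht]
    refine ⟨_, ht', mul_left_cancel (a := D.h) (mul_right_cancel (b := D.h⁻¹) ?_)⟩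
    rw [e, D.z_conj _ ht', mul_div_cancel₀ _ hne]

theorem conjs_le_norm : conjs D.h D.u ≤ Subgroup.normalizer (D.Zs : Set X) :=
  (Subgroup.closure_le _).2 (by
    rintro _ ⟨i, rfl⟩
    exact mul_mem (mul_mem (pow_mem D.h_mem_norm i) D.u_mem_norm) (inv_mem (pow_mem D.h_mem_norm i)))

theorem central_of_x_zero [Fact p.Prime] [CharP F p] {w : X} (hw : w ∈ conjs D.h D.u) {y : F}
    (hy : IsU (D.π w) 0 y) : w ∈ D.Zs := by
  let Nm := Subgroup.normalizer (D.Zs : Set X)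
  let K : Subgroup Nm := D.Zs.subgroupOf Nm
  have : K.Normal := Subgroup.normal_in_normalizer
  let mk := QuotientGroup.mk' K
  let u' : Nm := ⟨D.u, D.u_mem_norm⟩
  let h' : Nm := ⟨D.h, D.h_mem_norm⟩
  have hmk : ∀ {a : Nm}, (∃ t, σ t = t ∧ (a : X) = D.z t) → mk a = 1 := fun {a} ha =>
    (QuotientGroup.eq_one_iff a).2 (Subgroup.mem_subgroupOf.2 ha)
  obtain ⟨a', hadd, h1, hh, -⟩ := FieldModule.toField (F := F) p (η := mult σ D.ω) D.hsurj D.hM
    (h := mk h') (u := mk u')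
    (fun i => by
      rw [← commutatorElement_eq_one_iff_commute, ← map_pow, ← map_inv, ← map_mul, ← map_mul,
        ← map_commutatorElement]
      refine hmk ?_
      simpa [u', h', commutatorElement_def] using D.ab i)
    (by rw [← map_pow]; exact hmk (by simpa [u'] using D.pth))
    (by
      rw [← FieldModule.map_pw mk]
      refine hmk ?_
      obtain ⟨t, ht, e⟩ := D.mrel
      refine ⟨t, ht, ?_⟩
      rw [← e]
      exact FieldModule.map_pw Nm.subtype h' u' D.M)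
  have a0 : a' 0 = 1 := by
    have := hadd 0 0
    rwa [add_zero, mul_eq_left] at this
  have hpow : ∀ i : ℕ, mk h' ^ i * mk u' * (mk h' ^ i)⁻¹ = a' (mult σ D.ω ^ i) := by
    intro i
    induction i with
    | zero => simp [h1]
    | succ i ih =>
      rw [pow_succ' (mult σ D.ω), ← hh, ← ih, pow_succ']
      group
  have key : ∀ v (hv : v ∈ conjs D.h D.u), ∀ x y, IsU (D.π v) x y →
      mk ⟨v, D.conjs_le_norm hv⟩ = a' (x / D.x₀) := by
    intro v hv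
    refine Subgroup.closure_induction (p := fun v hv => ∀ x y, IsU (D.π v) x y →
      mk ⟨v, D.conjs_le_norm hv⟩ = a' (x / D.x₀)) ?_ ?_ ?_ ?_ hv
    · rintro _ ⟨i, rfl⟩ x y hx
      have hc := D.πu.conj D.hσ (D.ω ^ i)
      rw [map_pow, ← D.πh, ← map_pow, ← map_inv, ← map_mul, ← map_mul] at hc
      obtain ⟨rfl, -⟩ := hx.inj hc
      rw [show σ ((D.ω ^ i : Fˣ) : F) * σ ((D.ω ^ i : Fˣ) : F) / ((D.ω ^ i : Fˣ) : F) =
        mult σ (D.ω ^ i) from rfl, mult_pow, mul_div_assoc, div_self D.hx₀, mul_one, ← hpow,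
        ← map_pow, ← map_inv, ← map_mul, ← map_mul]
      rfl
    · intro x y hx
      rw [map_one] at hx
      obtain ⟨rfl, -⟩ := hx.inj IsU.one
      rw [zero_div, a0]
      exact map_one mk
    · intro a b ha hb iha ihb x y hx
      obtain ⟨xa, ya, hxa⟩ := D.exists_isU ha
      obtain ⟨xb, yb, hxb⟩ := D.exists_isU hb
      rw [map_mul] at hx
      obtain ⟨rfl, -⟩ := hx.inj (hxa.mul hxb)
      rw [add_div, ← hadd, ← iha _ _ hxa, ← ihb _ _ hxb, ← map_mul]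
      rfl
    · intro a ha iha x y hx
      obtain ⟨xa, ya, hxa⟩ := D.exists_isU ha
      rw [map_inv] at hx
      obtain ⟨rfl, -⟩ := hx.inj (hxa.inv D.hσ)
      have e : a' (-xa / D.x₀) * a' (xa / D.x₀) = 1 := by
        rw [hadd, ← a0]; congr 1; ring
      rw [eq_inv_of_mul_eq_one_left e, ← iha _ _ hxa, ← map_inv]
      rfl
  have := key w hw 0 y hy
  rw [zero_div, a0] at this
  exact Subgroup.mem_subgroupOf.1 ((QuotientGroup.eq_one_iff _).1 this)

theorem eq_one_of_pi [Fact p.Prime] [CharP F p] {w : X} (hw : w ∈ conjs D.h D.u)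
    (e : D.π w = 1) : w = 1 := by
  obtain ⟨t, ht, rfl⟩ := D.central_of_x_zero hw (y := 0) (by rw [e]; exact IsU.one)
  have h0 := ((D.isU_pi_z ht).inj (by rw [e]; exact IsU.one)).2
  rw [(mul_eq_zero.1 h0).resolve_right D.hδ0, D.z_zero]

theorem eq_of_pi [Fact p.Prime] [CharP F p] {v w : X} (hv : v ∈ conjs D.h D.u)
    (hw : w ∈ conjs D.h D.u) {x y : F} (ev : IsU (D.π v) x y) (ew : IsU (D.π w) x y) : v = w :=
  mul_inv_eq_one.1 (D.eq_one_of_pi (mul_mem hv (inv_mem hw)) (by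
    rw [map_mul, map_inv, ev.eq ew, mul_inv_cancel]))

theorem exists_x (x : F) : ∃ w ∈ conjs D.h D.u, ∃ y, IsU (D.π w) x y := by
  let A : AddSubgroup F :=
    { carrier := {t | ∃ w ∈ conjs D.h D.u, ∃ y, IsU (D.π w) (t * D.x₀) y}
      zero_mem' := ⟨1, one_mem _, 0, by rw [map_one, zero_mul]; exact IsU.one⟩
      add_mem' := fun {a b} ⟨v, hv, _, ev⟩ ⟨w, hw, _, ew⟩ =>
        ⟨v * w, mul_mem hv hw, _, by rw [map_mul, add_mul]; exact ev.mul ew⟩
      neg_mem' := fun {a} ⟨v, hv, _, ev⟩ =>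
        ⟨v⁻¹, inv_mem hv, _, by rw [map_inv, neg_mul]; exact ev.inv D.hσ⟩ }
  have hpow : ∀ i : ℕ, mult σ D.ω ^ i ∈ A := fun i =>
    ⟨_, conj_mem_conjs D.h D.u i, _, by
      rw [map_mul, map_mul, map_inv, map_pow, D.πh, ← map_pow, ← mult_pow]
      exact D.πu.conj D.hσ _⟩
  have hall : ∀ f : ℤ[X], aeval (mult σ D.ω) f ∈ A := by
    intro f
    induction f using Polynomial.induction_on' with
    | add f g hf hg => rw [map_add]; exact add_mem hf hg
    | monomial n c =>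
      rw [aeval_monomial, eq_intCast, ← zsmul_eq_mul]
      exact zsmul_mem (hpow n) c
  obtain ⟨f, hf⟩ := D.hsurj (x / D.x₀)
  obtain ⟨w, hw, y, e⟩ := hall f
  rw [hf, div_mul_cancel₀ _ D.hx₀] at e
  exact ⟨w, hw, y, e⟩

theorem exists_elt {x y : F} (hok : Ok σ x y) : ∃ w ∈ conjs D.h D.u, IsU (D.π w) x y := by
  obtain ⟨w, hw, y', e⟩ := D.exists_x x
  have e' := e.ok
  unfold Ok at hok e'
  have hd := D.hδ0
  have ht : σ ((y - y') / D.δ) = (y - y') / D.δ := by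
    rw [map_div₀, map_sub, D.hδ, div_neg, ← neg_div]
    congr 1
    linear_combination -hok + e'
  refine ⟨w * D.z ((y - y') / D.δ), mul_mem hw (D.z_mem_conjs ht), ?_⟩
  rw [map_mul]
  convert e.mul (D.isU_pi_z ht) using 1
  · rw [add_zero]
  · rw [div_mul_cancel₀ _ hd, mul_zero]; ring

theorem h_conj_mem {w : X} (hw : w ∈ conjs D.h D.u) (k : ℕ) :
    (D.h ^ k)⁻¹ * w * D.h ^ k ∈ conjs D.h D.u := by
  obtain ⟨m, hm⟩ := exists_pow_eq_inv D.hN D.hord k
  have := pow_conj_mem_conjs D.h D.u m hw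
  rwa [← hm, inv_inv] at this

end Unip

end CfsgLib.Pres.SU.Rank1
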