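import Cfsg.Agent.Lib.Pres.SU.Rank1.Borel

/-!
With a Weyl element and one relation for each of two root elements, every conjugate of a root element
by the Weyl element lies in the big cell, so the group is the unitary group.
-/

set_option autoImplicit false

namespace CfsgLib.Pres.SU.Rank1

open Matrix CfsgLib.Classical CfsgLib.Classical.Unitary
open scoped MatrixGroups

variable {F : Type*} [Field F] {σ : F →+* F} {p : ℕ} {X : Type*} [Group X]

/-- The big cell. -/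
def Cell (h u n : X) : Set X :=
  {x | ∃ w₁ ∈ conjs h u, ∃ i : ℕ, ∃ w₂ ∈ conjs h u, x = w₁ * h ^ i * n * w₂}

/-- The conditions on the Weyl element. -/
structure Weyl (σ : F →+* F) (p : ℕ) (X : Type*) [Group X] extends Unip σ p X where
  hNω : ∀ i : ℕ, ω ^ i = 1 → N ∣ i
  n : X
  n2 : n * n = 1
  πn : π n = nW σ
  nh : ∃ j : ℕ, n * h * n = h ^ j
  relz : n * z 1 * n ∈ Cell h u n
  relu : n * u * n ∈ Cell h u n
  hg : ∀ c : F, c * σ c = 1 → ∃ k : ℕ, c = (-y₀ / σ y₀) ^ k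
  top : Subgroup.closure {u, h, n} = ⊤

namespace Weyl

variable (D : Weyl σ p X)

theorem h_pow_mod (i : ℕ) (e : D.ω ^ i = 1) : D.h ^ i = 1 := by
  obtain ⟨c, rfl⟩ := D.hNω i e
  rw [pow_mul, D.hord, one_pow]

theorem n_hpow (k : ℕ) : ∃ m : ℕ, D.n * D.h ^ k * D.n = D.h ^ m := by
  obtain ⟨j, hj⟩ := D.nh
  refine ⟨j * k, ?_⟩
  induction k with
  | zero => rw [pow_zero, mul_one, D.n2, Nat.mul_zero, pow_zero]
  | succ k ih =>
    rw [Nat.mul_succ, pow_add D.h (j * k) j, ← ih, ← hj, pow_succ D.h k,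
      show D.n * D.h ^ k * D.n * (D.n * D.h * D.n) = D.n * D.h ^ k * (D.n * D.n) * D.h * D.n by
        group, D.n2, mul_one]
    group

theorem n_inv : D.n⁻¹ = D.n := inv_eq_of_mul_eq_one_right D.n2

theorem cell_left_W {x v : X} (hx : x ∈ Cell D.h D.u D.n) (hv : v ∈ conjs D.h D.u) :
    v * x ∈ Cell D.h D.u D.n := by
  obtain ⟨w₁, h1, i, w₂, h2, rfl⟩ := hx
  exact ⟨v * w₁, mul_mem hv h1, i, w₂, h2, by group⟩

theorem cell_right_W {x v : X} (hx : x ∈ Cell D.h D.u D.n) (hv : v ∈ conjs D.h D.u) :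
    x * v ∈ Cell D.h D.u D.n := by
  obtain ⟨w₁, h1, i, w₂, h2, rfl⟩ := hx
  exact ⟨w₁, h1, i, w₂ * v, mul_mem h2 hv, by group⟩

theorem cell_left_h {x : X} (hx : x ∈ Cell D.h D.u D.n) (k : ℕ) :
    D.h ^ k * x ∈ Cell D.h D.u D.n := by
  obtain ⟨w₁, h1, i, w₂, h2, rfl⟩ := hx
  exact ⟨_, pow_conj_mem_conjs _ _ k h1, k + i, w₂, h2, by rw [pow_add]; group⟩

theorem cell_right_h {x : X} (hx : x ∈ Cell D.h D.u D.n) (k : ℕ) :
    x * D.h ^ k ∈ Cell D.h D.u D.n := by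
  obtain ⟨w₁, h1, i, w₂, h2, rfl⟩ := hx
  obtain ⟨m, hm⟩ := D.n_hpow k
  refine ⟨w₁, h1, i + m, _, D.h_conj_mem h2 k, ?_⟩
  have e : D.n * D.h ^ k = D.h ^ m * D.n := by
    rw [← hm, mul_assoc _ D.n D.n, D.n2, mul_one]
  calc w₁ * D.h ^ i * D.n * w₂ * D.h ^ k
      = w₁ * D.h ^ i * (D.n * D.h ^ k) * ((D.h ^ k)⁻¹ * w₂ * D.h ^ k) := by group
    _ = _ := by rw [e, pow_add]; group

theorem cell_inv {x : X} (hx : x ∈ Cell D.h D.u D.n) : x⁻¹ ∈ Cell D.h D.u D.n := by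
  obtain ⟨w₁, h1, i, w₂, h2, rfl⟩ := hx
  obtain ⟨m, hm⟩ := exists_pow_eq_inv D.hN D.hord i
  have hn : D.n ∈ Cell D.h D.u D.n := ⟨1, one_mem _, 0, 1, one_mem _, by simp⟩
  have := D.cell_right_W (D.cell_right_h (D.cell_left_W hn (inv_mem h2)) m) (inv_mem h1)
  rw [← hm] at this
  simpa [_root_.mul_inv_rev, D.n_inv, mul_assoc] using this

/-- The conjugate of the root element with these parameters lies in the big cell. -/
def Good (x y : F) : Prop :=
  ∀ w ∈ conjs D.h D.u, IsU (D.π w) x y → D.n * w * D.n ∈ Cell D.h D.u D.n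

theorem good_neg {x y : F} (g : D.Good x y) : D.Good (-x) (σ y) := fun w hw e => by
  have := D.cell_inv (g w⁻¹ (inv_mem hw) (by
    rw [map_inv]; simpa [D.hσ] using e.inv D.hσ))
  simpa [_root_.mul_inv_rev, D.n_inv, mul_assoc] using this

theorem cell_parts [Fact p.Prime] [CharP F p] {w : X} {x y : F}
    (e : IsU (D.π w) x y) (hc : D.n * w * D.n ∈ Cell D.h D.u D.n) :
    ∃ w₁ ∈ conjs D.h D.u, ∃ i : ℕ, ∃ w₂ ∈ conjs D.h D.u,
      D.n * w * D.n = w₁ * D.h ^ i * D.n * w₂ ∧ IsU (D.π w₁) (-x / y) (1 / y) ∧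
      IsU (D.π w₂) (-x / σ y) (1 / y) := by
  obtain ⟨w₁, h1, i, w₂, h2, he⟩ := hc
  obtain ⟨x₁, y₁, e1⟩ := D.exists_isU h1
  obtain ⟨x₂, y₂, e2⟩ := D.exists_isU h2
  have hπ := congrArg D.π he
  simp only [map_mul, map_pow, D.πn, D.πh] at hπ
  rw [← map_pow] at hπ
  obtain ⟨-, rfl, rfl, rfl, rfl⟩ := right_part D.hσ e e1 e2 hπ
  exact ⟨w₁, h1, i, w₂, h2, he, e1, e2⟩

theorem good_rot [Fact p.Prime] [CharP F p] {x y : F} (hok : Ok σ x y) (g : D.Good x y) :
    D.Good (-x / σ y) (1 / y) := by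
  intro v hv ev
  obtain ⟨w, hw, e⟩ := D.exists_elt hok
  obtain ⟨w₁, h1, i, w₂, h2, he, -, e2⟩ := D.cell_parts e (g w hw e)
  rw [D.eq_of_pi hv h2 ev e2]
  obtain ⟨m, hm⟩ := exists_pow_eq_inv D.hN D.hord i
  have := D.cell_left_h (x := w₁⁻¹ * D.h ^ 0 * D.n * w) ⟨_, inv_mem h1, 0, w, hw, rfl⟩ m
  convert this using 1
  rw [← hm, pow_zero, mul_one]
  calc D.n * w₂ * D.n = (D.h ^ i)⁻¹ * w₁⁻¹ * (w₁ * D.h ^ i * D.n * w₂) * D.n := by group
    _ = (D.h ^ i)⁻¹ * w₁⁻¹ * D.n * w * (D.n * D.n) := by rw [← he]; group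
    _ = _ := by rw [D.n2, mul_one]; group

theorem good_conj [Fact p.Prime] [CharP F p] {x y : F} (hok : Ok σ x y) (g : D.Good x y) (a : Fˣ) :
    D.Good (mult σ a * x) ((a : F) * σ a * y) := by
  intro v hv ev
  obtain ⟨k, rfl⟩ := D.hω a
  obtain ⟨w, hw, e⟩ := D.exists_elt hok
  have e' := e.conj D.hσ (D.ω ^ k)
  rw [map_pow, ← D.πh, ← map_pow, ← map_inv, ← map_mul, ← map_mul] at e'
  rw [D.eq_of_pi hv (pow_conj_mem_conjs _ _ k hw) ev e']
  obtain ⟨m, hm⟩ := D.n_hpow k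
  obtain ⟨m', hm'⟩ := exists_pow_eq_inv D.hN D.hord m
  have := D.cell_right_h (D.cell_left_h (g w hw e) m) m'
  convert this using 1
  rw [← hm', ← hm, _root_.mul_inv_rev, _root_.mul_inv_rev, D.n_inv]
  simp only [← mul_assoc, mul_assoc _ D.n D.n, D.n2, mul_one]

theorem good_z [Fact p.Prime] [CharP F p] {y : F} (hy : σ y = -y) (hy0 : y ≠ 0) : D.Good 0 y := by
  have h1 : D.Good 0 D.δ := fun w hw e => by
    rw [D.eq_of_pi hw (D.z_mem) e D.πz]; exact D.relz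
  have hd := D.hδ0
  obtain ⟨i, hi⟩ := D.hω' (y / D.δ) (by rw [map_div₀, hy, D.hδ, neg_div_neg_eq]) (div_ne_zero hy0 hd)
  have := D.good_conj (show Ok σ 0 D.δ by simp [Ok, D.hδ]) h1 (D.ω ^ i)
  rwa [mul_zero, Units.val_pow_eq_pow_val, map_pow, ← mul_pow, ← hi, div_mul_cancel₀ _ hd] at this

theorem good_tetra [Fact p.Prime] [CharP F p] {x y t : F} (hok : Ok σ x y) (ht : σ t = -t)
    (ht0 : t ≠ 0) (g : D.Good x y) (g' : D.Good (-x / σ y) (1 / y + 1 / t)) :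
    D.Good x (y + t) := by
  intro v hv ev
  obtain ⟨w, hw, e⟩ := D.exists_elt hok
  have hokt : Ok σ 0 t := by simp [Ok, ht]
  obtain ⟨c, hc, ec⟩ := D.exists_elt hokt
  obtain ⟨w₁, h1, i, w₂, h2, he, -, e2⟩ := D.cell_parts e (g w hw e)
  obtain ⟨a₁, ha1, j, a₂, ha2, hea, ea1, -⟩ := D.cell_parts ec (D.good_z ht ht0 c hc ec)
  have e3 : IsU (D.π (w₂ * a₁)) (-x / σ y) (1 / y + 1 / t) := by
    rw [map_mul]
    convert e2.mul ea1 using 1 <;> simp
  have key := g' _ (mul_mem h2 ha1) e3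
  obtain ⟨m, hm⟩ := D.n_hpow j
  have e4 : IsU (D.π (w * c)) x (y + t) := by
    rw [map_mul]
    convert e.mul ec using 1 <;> simp
  rw [D.eq_of_pi hv (mul_mem hw hc) ev e4]
  have := D.cell_right_W (D.cell_right_h (D.cell_left_W (D.cell_left_h key i) h1) m) ha2
  convert this using 1
  calc D.n * (w * c) * D.n = (D.n * w * D.n) * (D.n⁻¹ * c * D.n) := by group
    _ = (w₁ * D.h ^ i * D.n * w₂) * (a₁ * D.h ^ j * D.n * a₂) := by rw [D.n_inv, he, hea]
    _ = w₁ * (D.h ^ i * (D.n * (w₂ * a₁) * D.n)) * (D.n⁻¹ * D.h ^ j * D.n) * a₂ := by group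
    _ = _ := by rw [D.n_inv, hm]

/-- All root elements with the given invariants are good. -/
def AllGood (e d : F) : Prop :=
  ∀ x y, Ok σ x y → x ≠ 0 → -y / σ y = e →
    (∃ c, c * σ c = 1 ∧ σ x / x = d * c ^ 3) → D.Good x y

omit D in
theorem y_ne_zero {x y : F} (hok : Ok σ x y) (hx : x ≠ 0) : y ≠ 0 := by
  rintro rfl
  simp [Ok, hx] at hok

theorem allGood_inv {e d : F} (g : D.AllGood e d) : D.AllGood e⁻¹ d := by
  intro x y hok hx he hd
  have hok' : Ok σ (-x) (σ y) := by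
    unfold Ok at *; rw [D.hσ, map_neg]; linear_combination hok
  have he' : -σ y / σ (σ y) = e := by
    rw [← inv_inv e, ← he, D.hσ, inv_div, neg_div, div_neg]
  have := D.good_neg (g (-x) (σ y) hok' (neg_ne_zero.2 hx) he' (by simpa using hd))
  rwa [neg_neg, D.hσ] at this

theorem allGood_rot [Fact p.Prime] [CharP F p] {e d : F} (g : D.AllGood e d) :
    D.AllGood e⁻¹ (d / e) := by
  intro x y hok hx he hd
  obtain ⟨c, hc, hd⟩ := hd
  have hy := y_ne_zero hok hx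
  have hy' : σ y ≠ 0 := by simpa using hy
  have hok' : Ok σ (-x / σ y) (1 / y) := by
    unfold Ok at *
    simp only [map_div₀, map_one, map_neg, D.hσ]
    field_simp
    linear_combination hok
  have he' : -(1 / y) / σ (1 / y) = e := by
    rw [← inv_inv e, ← he, map_div₀, map_one]; field_simp
  have he0 : e ≠ 0 := by
    rw [← he']; exact div_ne_zero (neg_ne_zero.2 (by simpa using hy)) (by simpa using hy)
  have := D.good_rot hok' (g _ _ hok' (div_ne_zero (neg_ne_zero.2 hx) hy') he'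
    ⟨-c, by rw [map_neg]; linear_combination hc, by
      have h2 : σ (-x / σ y) / (-x / σ y) = σ x / x * (σ y / y) := by
        simp only [map_div₀, map_neg, D.hσ]; field_simp
      have h3 : σ y / y = -e := by rw [← he', map_div₀, map_one]; field_simp
      rw [h2, hd, h3]; field_simp⟩)
  convert this using 1 <;> (try simp only [map_div₀, map_neg, map_one, D.hσ]) <;> field_simp

theorem allGood_tetra [Fact p.Prime] [CharP F p] {e e' d : F} (he : e * σ e = 1)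
    (g : D.AllGood e d) (g' : D.AllGood (e' / e) (d / e)) : D.AllGood e' d := by
  intro x y hok hx hy hd
  rcases eq_or_ne e 1 with rfl | he1
  · simp only [div_one] at g'; exact g' x y hok hx hy hd
  rcases eq_or_ne e' e with rfl | hne
  · exact g x y hok hx hy hd
  obtain ⟨c, hc, hd⟩ := hd
  have he0 : e ≠ 0 := left_ne_zero_of_mul_eq_one he
  have hsub : e - 1 ≠ 0 := sub_ne_zero.2 he1
  have hsub' : (1 : F) - e ≠ 0 := sub_ne_zero.2 (Ne.symm he1)
  obtain ⟨y₁, hy1⟩ : ∃ y₁, y₁ = -(x * σ x) * e / (e - 1) := ⟨_, rfl⟩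
  have hse : σ e = e⁻¹ := eq_inv_of_mul_eq_one_right he
  have hsy1 : σ y₁ = x * σ x / (e - 1) := by
    rw [hy1, map_div₀, map_mul, map_neg, map_mul, map_sub, map_one, D.hσ, hse]
    field_simp
    ring
  have hy10 : y₁ ≠ 0 := by
    rw [hy1]; exact div_ne_zero (mul_ne_zero (neg_ne_zero.2 (mul_ne_zero hx (by simpa using hx))) he0) hsub
  have hok1 : Ok σ x y₁ := by
    rw [Ok, hsy1, hy1]; field_simp; ring
  have hsy1' : σ y₁ ≠ 0 := by simpa using hy10
  have hy1e : σ y₁ = -y₁ / e := by rw [hsy1, hy1]; field_simp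
  obtain ⟨t, ht⟩ : ∃ t, t = y - y₁ := ⟨_, rfl⟩
  have hst : σ t = -t := by
    unfold Ok at hok hok1
    rw [ht, map_sub]; linear_combination hok - hok1
  have ht0 : t ≠ 0 := by
    intro h0
    rw [ht, sub_eq_zero] at h0
    subst h0
    apply hne
    rw [← hy, hy1e]
    field_simp
  have hyy := y_ne_zero hok hx
  have hyy' : σ y ≠ 0 := by simpa using hyy
  have hyt : y = y₁ + t := by rw [ht]; ring
  have hok2 : Ok σ (-x / σ y₁) (1 / y₁ + 1 / t) := by
    unfold Ok at *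
    simp only [map_add, map_div₀, map_one, map_neg, D.hσ, hst]
    field_simp
    linear_combination t * hok1
  have := D.good_tetra hok1 hst ht0
    (g x y₁ hok1 hx (by rw [hy1e]; field_simp) ⟨c, hc, hd⟩)
    (g' _ _ hok2 (div_ne_zero (neg_ne_zero.2 hx) hsy1') (by
      have : σ (1 / y₁ + 1 / t) = -(σ y / (σ y₁ * t)) := by
        rw [map_add, map_div₀, map_div₀, map_one, hst, hyt, map_add, hst]; field_simp; ring
      have h2 : 1 / y₁ + 1 / t = y / (y₁ * t) := by rw [hyt]; field_simp; ring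
      rw [this, h2, ← hy, hy1e]
      field_simp)
      ⟨-c, by rw [map_neg]; linear_combination hc, by
        have h2 : σ (-x / σ y₁) / (-x / σ y₁) = σ x / x * (σ y₁ / y₁) := by
          simp only [map_div₀, map_neg, D.hσ]; field_simp
        rw [h2, hd, hy1e]; field_simp⟩)
  rwa [← hyt] at this

theorem allGood_base [Fact p.Prime] [CharP F p] :
    D.AllGood (-D.y₀ / σ D.y₀) (σ D.x₀ / D.x₀) := by
  intro x y hok hx he hd
  obtain ⟨c, hc, hd⟩ := hd
  have hok0 := D.πu.ok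
  have hy := y_ne_zero hok hx
  have hy' : σ y ≠ 0 := by simpa using hy
  have hy0 := y_ne_zero hok0 D.hx₀
  have hy0' : σ D.y₀ ≠ 0 := by simpa using hy0
  have hx0 := D.hx₀
  have hx0' : σ D.x₀ ≠ 0 := by simpa using hx0
  have hxs : σ x ≠ 0 := by simpa using hx
  obtain ⟨r, hr⟩ : ∃ r, r = y / D.y₀ := ⟨_, rfl⟩
  have hrfix : σ r = r := by
    rw [hr, map_div₀]
    field_simp at he ⊢
    linear_combination he
  obtain ⟨i, hi⟩ := D.hω' r hrfix (by rw [hr]; exact div_ne_zero hy hy0)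
  obtain ⟨a₀, ha₀⟩ : ∃ a₀, a₀ = D.ω ^ i := ⟨_, rfl⟩
  have hNa : (a₀ : F) * σ a₀ = r := by
    rw [hi, ha₀, Units.val_pow_eq_pow_val, map_pow, mul_pow]
  have hyr : y = r * D.y₀ := by rw [hr, div_mul_cancel₀ _ hy0]
  have hsa : σ (a₀ : F) ≠ 0 := by simp
  have ha0 : (a₀ : F) ≠ 0 := a₀.ne_zero
  obtain ⟨ζ, hζ⟩ : ∃ ζ, ζ = x / (mult σ a₀ * D.x₀) := ⟨_, rfl⟩
  have hnorm : x * σ x = r * (D.x₀ * σ D.x₀) := by
    unfold Ok at hok hok0
    rw [hyr, map_mul, hrfix] at hok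
    linear_combination hok - r * hok0
  have hζN : ζ * σ ζ = 1 := by
    rw [hζ, map_div₀, map_mul, mult, map_div₀, map_mul, D.hσ]
    field_simp
    rw [← hNa] at hnorm
    linear_combination hnorm
  have hζ0 : ζ ≠ 0 := left_ne_zero_of_mul_eq_one hζN
  have hsζ0 : σ ζ ≠ 0 := by simpa using hζ0
  have hc0 : c ≠ 0 := left_ne_zero_of_mul_eq_one hc
  obtain ⟨b, hb⟩ : ∃ b, b = ζ * c * σ (a₀ : F) / a₀ := ⟨_, rfl⟩
  have hb3 : b ^ 3 = ζ := by
    have h2 : σ ζ / ζ = c ^ 3 * (σ (a₀ : F) / a₀) ^ 3 := by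
      rw [hζ, map_div₀, map_mul, mult, map_div₀, map_mul, D.hσ]
      field_simp at hd ⊢
      linear_combination hd
    have h3 : σ ζ = ζ⁻¹ := eq_inv_of_mul_eq_one_right hζN
    rw [hb]
    rw [h3] at h2
    field_simp at h2 ⊢
    linear_combination -h2
  have hbN : b * σ b = 1 := by
    have hc' : σ c = c⁻¹ := eq_inv_of_mul_eq_one_right hc
    rw [hb, map_div₀, map_mul, map_mul, D.hσ, hc', eq_inv_of_mul_eq_one_right hζN]
    field_simp
  have hb0 : b ≠ 0 := left_ne_zero_of_mul_eq_one hbN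
  obtain ⟨a, ha⟩ : ∃ a, a = a₀ * (Units.mk0 b hb0)⁻¹ := ⟨_, rfl⟩
  have hsb : σ b = b⁻¹ := eq_inv_of_mul_eq_one_right hbN
  have := D.good_conj hok0 (fun w hw e => by
    rw [D.eq_of_pi hw (self_mem_conjs _ _) e D.πu]; exact D.relu) a
  convert this using 1
  · rw [ha, mult_mul]
    have : mult σ (Units.mk0 b hb0)⁻¹ = b ^ 3 := by
      simp [mult, hsb]; ring
    rw [this, hb3, hζ, mult]
    field_simp
  · rw [ha, Units.val_mul, map_mul, hyr, ← hNa, Units.val_inv_eq_inv_val, map_inv₀, Units.val_mk0,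
      hsb]
    field_simp

theorem good [Fact p.Prime] [CharP F p] {x y : F} (hok : Ok σ x y) (hne : ¬ (x = 0 ∧ y = 0)) :
    D.Good x y := by
  rcases eq_or_ne x 0 with rfl | hx
  · exact D.good_z (by unfold Ok at hok; simp at hok; linear_combination hok) fun e => hne ⟨rfl, e⟩
  have hok0 := D.πu.ok
  have hy0 := y_ne_zero hok0 D.hx₀
  have hy0' : σ D.y₀ ≠ 0 := by simpa using hy0
  obtain ⟨g, hg⟩ : ∃ g, g = -D.y₀ / σ D.y₀ := ⟨_, rfl⟩
  have hgN : g * σ g = 1 := by rw [hg, map_div₀, map_neg, D.hσ]; field_simp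
  have hg0 : g ≠ 0 := left_ne_zero_of_mul_eq_one hgN
  have hd0 : ∀ k : ℕ, D.AllGood g (σ D.x₀ / D.x₀ / g ^ k) := by
    intro k
    induction k with
    | zero => rw [pow_zero, div_one, hg]; exact D.allGood_base
    | succ k ih =>
      have := D.allGood_inv (D.allGood_rot ih)
      rwa [inv_inv, div_div, ← pow_succ] at this
  have hall : ∀ d : F, d * σ d = 1 → D.AllGood g d := by
    intro d hd
    have hd' : d ≠ 0 := left_ne_zero_of_mul_eq_one hd
    have hx0' : σ D.x₀ ≠ 0 := by simpa using D.hx₀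
    have hx0 := D.hx₀
    obtain ⟨k, hk⟩ := D.hg (σ D.x₀ / D.x₀ / d) (by
      rw [map_div₀, map_div₀, D.hσ, eq_inv_of_mul_eq_one_right hd]
      field_simp)
    rw [← hg] at hk
    convert hd0 k using 1
    rw [← hk]
    field_simp
  have step : ∀ (k : ℕ) (d : F), d * σ d = 1 → D.AllGood (g ^ k) d := by
    intro k
    induction k with
    | zero =>
      intro d _ x y hok hx he _
      exfalso
      rw [pow_zero, div_eq_one_iff_eq (by simpa using y_ne_zero hok hx)] at he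
      unfold Ok at hok
      rw [← he] at hok
      simp [hx] at hok
    | succ k ih =>
      intro d hd
      refine D.allGood_tetra hgN (hall d hd) ?_
      rw [pow_succ, mul_div_assoc, div_self hg0, mul_one]
      refine ih _ ?_
      rw [map_div₀, eq_inv_of_mul_eq_one_right hgN]
      field_simp
      linear_combination hd
  have hy := y_ne_zero hok hx
  have hy' : σ y ≠ 0 := by simpa using hy
  have hx' : σ x ≠ 0 := by simpa using hx
  obtain ⟨k, hk⟩ := D.hg (-y / σ y) (by rw [map_div₀, map_neg, D.hσ]; field_simp)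
  rw [← hg] at hk
  exact step k (σ x / x) (by rw [map_div₀, D.hσ]; field_simp) x y hok hx hk
    ⟨1, by simp, by simp⟩

theorem mem_cells [Fact p.Prime] [CharP F p] (x : X) :
    (∃ w ∈ conjs D.h D.u, ∃ i : ℕ, x = w * D.h ^ i) ∨ x ∈ Cell D.h D.u D.n := by
  have hx : x ∈ Subgroup.closure {D.u, D.h, D.n} := by rw [D.top]; exact Subgroup.mem_top x
  have rW : ∀ {v y : X}, v ∈ conjs D.h D.u →
      (∃ w ∈ conjs D.h D.u, ∃ i : ℕ, y = w * D.h ^ i) ∨ y ∈ Cell D.h D.u D.n →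
      (∃ w ∈ conjs D.h D.u, ∃ i : ℕ, y * v = w * D.h ^ i) ∨ y * v ∈ Cell D.h D.u D.n := by
    intro v y hv
    rintro (⟨w, hw, i, rfl⟩ | hy)
    · exact Or.inl ⟨_, mul_mem hw (pow_conj_mem_conjs _ _ i hv), i, by group⟩
    · exact Or.inr (D.cell_right_W hy hv)
  have rh : ∀ {y : X} (k : ℕ),
      (∃ w ∈ conjs D.h D.u, ∃ i : ℕ, y = w * D.h ^ i) ∨ y ∈ Cell D.h D.u D.n →
      (∃ w ∈ conjs D.h D.u, ∃ i : ℕ, y * D.h ^ k = w * D.h ^ i) ∨ y * D.h ^ k ∈ Cell D.h D.u D.n := by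
    intro y k
    rintro (⟨w, hw, i, rfl⟩ | hy)
    · exact Or.inl ⟨w, hw, i + k, by rw [mul_assoc, ← pow_add]⟩
    · exact Or.inr (D.cell_right_h hy k)
  have rn : ∀ {y : X},
      (∃ w ∈ conjs D.h D.u, ∃ i : ℕ, y = w * D.h ^ i) ∨ y ∈ Cell D.h D.u D.n →
      (∃ w ∈ conjs D.h D.u, ∃ i : ℕ, y * D.n = w * D.h ^ i) ∨ y * D.n ∈ Cell D.h D.u D.n := by
    intro y
    rintro (⟨w, hw, i, rfl⟩ | ⟨w₁, h1, i, w₂, h2, rfl⟩)
    · exact Or.inr ⟨w, hw, i, 1, one_mem _, by rw [mul_one]⟩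
    · by_cases h0 : w₂ = 1
      · exact Or.inl ⟨w₁, h1, i, by rw [h0, mul_one, mul_assoc _ D.n D.n, D.n2, mul_one]⟩
      · obtain ⟨a, b, e⟩ := D.exists_isU h2
        have hne : ¬ (a = 0 ∧ b = 0) := fun ⟨ea, eb⟩ => h0 (D.eq_one_of_pi h2 (by
          rw [ea, eb] at e; exact e.eq_one))
        have := D.cell_left_W (D.cell_left_h (D.good e.ok hne w₂ h2 e) i) h1
        right
        convert this using 1
        group
  refine Subgroup.closure_induction_right (p := fun y _ =>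
    (∃ w ∈ conjs D.h D.u, ∃ i : ℕ, y = w * D.h ^ i) ∨ y ∈ Cell D.h D.u D.n) ?_ ?_ ?_ hx
  · exact Or.inl ⟨1, one_mem _, 0, by simp⟩
  · rintro y g _ (rfl | rfl | rfl) hy
    · exact rW (self_mem_conjs _ _) hy
    · simpa using rh 1 hy
    · exact rn hy
  · rintro y g _ (rfl | rfl | rfl) hy
    · exact rW (inv_mem (self_mem_conjs _ _)) hy
    · obtain ⟨m, hm⟩ := exists_pow_eq_inv D.hN D.hord 1
      rw [pow_one] at hm
      rw [hm]; exact rh m hy
    · rw [D.n_inv]; exact rn hy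

theorem π_bijective [Fact p.Prime] [CharP F p] : Function.Bijective D.π := by
  refine ⟨(injective_iff_map_eq_one _).2 fun x e => ?_, fun M => ?_⟩
  · rcases D.mem_cells x with ⟨w, hw, i, rfl⟩ | ⟨w₁, h1, i, w₂, h2, rfl⟩
    · obtain ⟨a, b, ew⟩ := D.exists_isU hw
      rw [map_mul, map_pow, D.πh, ← map_pow] at e
      obtain ⟨e1, e2⟩ := torus_unip D.hσ ew e
      have hi : D.ω ^ i = 1 := Units.ext (by
        simpa [val_hH, val_one, -map_pow, -Units.val_pow_eq_pow_val] using congrFun (congrFun (congrArg (fun N : HU σ => N.1.1) e2) 0) 0)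
      rw [D.eq_one_of_pi hw e1, D.h_pow_mod i hi, mul_one]
    · obtain ⟨a, b, e1⟩ := D.exists_isU h1
      obtain ⟨a', b', e2⟩ := D.exists_isU h2
      rw [map_mul, map_mul, map_mul, map_pow, D.πh, D.πn, ← map_pow] at e
      exact absurd e (cells_disjoint D.hσ e1 e2)
  · obtain ⟨x, y, hok, a, hM⟩ := cells D.hσ M
    obtain ⟨w, hw, e⟩ := D.exists_elt hok
    obtain ⟨i, rfl⟩ := D.hω a
    rcases hM with rfl | ⟨x', y', hok', rfl⟩
    · exact ⟨w * D.h ^ i, by rw [map_mul, map_pow, D.πh, ← map_pow, e.eq (isU_uE D.hσ x y hok)]⟩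
    · obtain ⟨v, hv, e'⟩ := D.exists_elt hok'
      exact ⟨w * D.h ^ i * D.n * v, by
        rw [map_mul, map_mul, map_mul, map_pow, D.πh, D.πn, ← map_pow,
          e.eq (isU_uE D.hσ x y hok), e'.eq (isU_uE D.hσ x' y' hok')]⟩

end Weyl

end CfsgLib.Pres.SU.Rank1
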