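import Cfsg.Agent.Lib.Pres.SU.Rank1.Borel
import Cfsg.Agent.Lib.Pres.FieldSquares

/-!
Deriving that all conjugates of an element commute modulo a central family from the same for some of
them.
-/

set_option autoImplicit false

namespace CfsgLib.Pres.SU.Rank1

open scoped commutatorElement

variable {F : Type*} [Field F] {σ : F →+* F} {X : Type*} [Group X]

/-- The conjugates with exponents in a set. -/
def conjsOn (h u : X) (I : Set ℕ) : Subgroup X :=
  Subgroup.closure ((fun i : ℕ => h ^ i * u * (h ^ i)⁻¹) '' I)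

/-- An element, a multiplier and an additive family. -/
structure ZData (σ : F →+* F) (ν : F) (X : Type*) [Group X] where
  u : X
  h : X
  z : F → X
  N : ℕ
  hN : 0 < N
  hord : h ^ N = 1
  hν : σ ν = ν
  hν0 : ν ≠ 0
  hgen : ∀ t : F, σ t = t → t ≠ 0 → ∃ i : ℕ, t = ν ^ i
  z_add : ∀ s t, σ s = s → σ t = t → z s * z t = z (s + t)
  z_conj : ∀ t, σ t = t → h * z t * h⁻¹ = z (ν * t)

namespace ZData

variable {ν : F} (D : ZData σ ν X)

theorem z_zero : D.z 0 = 1 := by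
  have := D.z_add 0 0 (map_zero σ) (map_zero σ)
  rwa [add_zero, mul_eq_left] at this

theorem z_pow (i : ℕ) : D.z (ν ^ i) = D.h ^ i * D.z 1 * (D.h ^ i)⁻¹ := by
  induction i with
  | zero => simp
  | succ i ih =>
    rw [pow_succ' ν i, ← D.z_conj _ (by rw [map_pow, D.hν]), ih, pow_succ']
    group

/-- The family as a subgroup. -/
def S : Subgroup X where
  carrier := {x | ∃ t, σ t = t ∧ x = D.z t}
  one_mem' := ⟨0, map_zero σ, D.z_zero.symm⟩
  mul_mem' := fun {a b} ⟨s, hs, ea⟩ ⟨t, ht, eb⟩ =>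
    ⟨s + t, by rw [map_add, hs, ht], by rw [ea, eb, D.z_add s t hs ht]⟩
  inv_mem' := fun {a} ⟨s, hs, ea⟩ => ⟨-s, by rw [map_neg, hs], by
    rw [ea]
    refine inv_eq_of_mul_eq_one_right ?_
    rw [D.z_add s (-s) hs (by rw [map_neg, hs]), add_neg_cancel, D.z_zero]⟩

theorem comm_all {I : Set ℕ} (h0 : D.u ∈ conjsOn D.h D.u I)
    (hst : ∀ v ∈ conjsOn D.h D.u I, D.h * v * D.h⁻¹ ∈ conjsOn D.h D.u I)
    (hc : ∀ i ∈ I, Commute (D.z 1) (D.h ^ i * D.u * (D.h ^ i)⁻¹)) (i : ℕ) :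
    Commute (D.z 1) (D.h ^ i * D.u * (D.h ^ i)⁻¹) := by
  have hle : conjsOn D.h D.u I ≤ Subgroup.centralizer {D.z 1} := by
    refine (Subgroup.closure_le _).2 ?_
    rintro _ ⟨k, hk, rfl⟩
    exact Subgroup.mem_centralizer_singleton_iff.2 (hc k hk).symm.eq
  have hmem : ∀ k : ℕ, D.h ^ k * D.u * (D.h ^ k)⁻¹ ∈ conjsOn D.h D.u I := by
    intro k
    induction k with
    | zero => simpa using h0
    | succ k ih =>
      convert hst _ ih using 1
      rw [pow_succ']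
      group
  exact (Subgroup.mem_centralizer_singleton_iff.1 (hle (hmem i))).symm

theorem u_commute (hcomm : ∀ i : ℕ, Commute (D.z 1) (D.h ^ i * D.u * (D.h ^ i)⁻¹)) {t : F}
    (ht : σ t = t) : Commute (D.z t) D.u := by
  rcases eq_or_ne t 0 with rfl | ht0
  · rw [D.z_zero]; exact Commute.one_left _
  obtain ⟨i, rfl⟩ := D.hgen t ht ht0
  rw [D.z_pow]
  obtain ⟨m, hm⟩ := exists_pow_eq_inv D.hN D.hord i
  have := (hcomm m).map (MulAut.conj (D.h ^ i)).toMonoidHom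
  rw [← hm, inv_inv] at this
  simp only [MulEquiv.coe_toMonoidHom, MulAut.conj_apply] at this
  rwa [show D.h ^ i * ((D.h ^ i)⁻¹ * D.u * D.h ^ i) * (D.h ^ i)⁻¹ = D.u by group] at this

theorem mem_norm (hcomm : ∀ i : ℕ, Commute (D.z 1) (D.h ^ i * D.u * (D.h ^ i)⁻¹)) :
    D.u ∈ Subgroup.normalizer (D.S : Set X) ∧ D.h ∈ Subgroup.normalizer (D.S : Set X) := by
  constructor <;> rw [Subgroup.mem_normalizer_iff] <;> intro x <;> constructor
  · rintro ⟨t, ht, rfl⟩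
    exact ⟨t, ht, by rw [← (D.u_commute hcomm ht).eq, mul_inv_cancel_right]⟩
  · rintro ⟨t, ht, e⟩
    refine ⟨t, ht, ?_⟩
    calc x = D.u⁻¹ * (D.u * x * D.u⁻¹) * D.u := by group
      _ = D.z t := by rw [e, mul_assoc, (D.u_commute hcomm ht).eq, inv_mul_cancel_left]
  · rintro ⟨t, ht, rfl⟩
    exact ⟨_, by rw [map_mul σ _ t, D.hν, ht], D.z_conj t ht⟩
  · rintro ⟨t, ht, e⟩
    have ht' : σ (t / ν) = t / ν := by rw [map_div₀, D.hν, ht]
    refine ⟨_, ht', mul_left_cancel (a := D.h) (mul_right_cancel (b := D.h⁻¹) ?_)⟩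
    rw [e, D.z_conj _ ht', mul_div_cancel₀ _ D.hν0]

/-- Commutation of one element with some conjugates gives it with all of them. -/
theorem ab_all (hcomm : ∀ i : ℕ, Commute (D.z 1) (D.h ^ i * D.u * (D.h ^ i)⁻¹)) {I : Set ℕ}
    (h0 : D.u ∈ conjsOn D.h D.u I)
    (hst : ∀ v ∈ conjsOn D.h D.u I, D.h * v * D.h⁻¹ ∈ conjsOn D.h D.u I)
    (hab : ∀ i ∈ I, ⁅D.u, D.h ^ i * D.u * (D.h ^ i)⁻¹⁆ ∈ D.S) (i : ℕ) :
    ⁅D.u, D.h ^ i * D.u * (D.h ^ i)⁻¹⁆ ∈ D.S := by
  obtain ⟨hu, hh⟩ := D.mem_norm hcomm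
  let Nm := Subgroup.normalizer (D.S : Set X)
  have : (D.S.subgroupOf Nm).Normal := Subgroup.normal_in_normalizer
  let mk := QuotientGroup.mk' (D.S.subgroupOf Nm)
  have hone : ∀ {a : Nm}, mk a = 1 ↔ (a : X) ∈ D.S := fun {a} =>
    (QuotientGroup.eq_one_iff a).trans Subgroup.mem_subgroupOf
  let C : Subgroup Nm := (Subgroup.centralizer {mk ⟨D.u, hu⟩}).comap mk
  have hC : ∀ {a : Nm}, a ∈ C ↔ ⁅D.u, (a : X)⁆ ∈ D.S := fun {a} => by
    rw [Subgroup.mem_comap, Subgroup.mem_centralizer_singleton_iff, eq_comm,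
      ← commutatorElement_eq_one_iff_mul_comm, ← map_commutatorElement, hone]
    simp [commutatorElement_def]
  have hle : conjsOn D.h D.u I ≤ C.map Nm.subtype := by
    refine (Subgroup.closure_le _).2 ?_
    rintro _ ⟨k, hk, rfl⟩
    exact ⟨⟨_, mul_mem (mul_mem (pow_mem hh k) hu) (inv_mem (pow_mem hh k))⟩, hC.2 (hab k hk), rfl⟩
  have hmem : ∀ k : ℕ, D.h ^ k * D.u * (D.h ^ k)⁻¹ ∈ conjsOn D.h D.u I := by
    intro k
    induction k with
    | zero => simpa using h0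
    | succ k ih =>
      convert hst _ ih using 1
      rw [pow_succ']
      group
  obtain ⟨a, ha, e⟩ := hle (hmem i)
  have := hC.1 ha
  rwa [show (a : X) = D.h ^ i * D.u * (D.h ^ i)⁻¹ from e] at this

/-- The commutation lemma modulo the family. -/
theorem ab_crw (hcomm : ∀ i : ℕ, Commute (D.z 1) (D.h ^ i * D.u * (D.h ^ i)⁻¹)) {m j : ℕ}
    (h1 : ⁅D.u, D.h ^ m * D.u * (D.h ^ m)⁻¹⁆ ∈ D.S)
    (h2 : D.h ^ j * D.u * (D.h ^ j)⁻¹ * ((D.h ^ m * D.u * (D.h ^ m)⁻¹)⁻¹ * D.u)⁻¹ ∈ D.S) (i : ℕ) :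
    ⁅D.u, D.h ^ (m * i) * D.u * (D.h ^ (m * i))⁻¹⁆ ∈ D.S := by
  obtain ⟨hu, hh⟩ := D.mem_norm hcomm
  let Nm := Subgroup.normalizer (D.S : Set X)
  have : (D.S.subgroupOf Nm).Normal := Subgroup.normal_in_normalizer
  let mk := QuotientGroup.mk' (D.S.subgroupOf Nm)
  have hone : ∀ {a : Nm}, mk a = 1 ↔ (a : X) ∈ D.S := fun {a} =>
    (QuotientGroup.eq_one_iff a).trans Subgroup.mem_subgroupOf
  let u' : Nm := ⟨D.u, hu⟩
  let k : Nm := ⟨D.h ^ m, pow_mem hh m⟩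
  let g : Nm := ⟨D.h ^ j, pow_mem hh j⟩
  have e1 : Commute (mk u') (mk k * mk u' * (mk k)⁻¹) := by
    rw [← commutatorElement_eq_one_iff_commute, ← map_inv, ← map_mul, ← map_mul,
      ← map_commutatorElement, hone]
    simpa [u', k, commutatorElement_def] using h1
  have e2 : mk g * mk u' * (mk g)⁻¹ = (mk k * mk u' * (mk k)⁻¹)⁻¹ * mk u' := by
    rw [← mul_inv_eq_one]
    simp only [← map_inv, ← map_mul]
    rw [hone]
    simpa [u', k, g] using h2
  have hgk : Commute g k := Subtype.ext ((Commute.refl D.h).pow_pow j m).eq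
  have := FieldSquares.crw_sub (hgk.map mk) e1 e2 i
  rw [← commutatorElement_eq_one_iff_commute, ← map_pow, ← map_inv, ← map_mul, ← map_mul,
    ← map_commutatorElement, hone] at this
  simpa [u', k, commutatorElement_def, pow_mul] using this

end ZData

end CfsgLib.Pres.SU.Rank1
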