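import Cfsg.Agent.Lib.Pres.SU.Rank1.Words

/-!
Two ways of forcing the conjugates of the root generator to commute with the centre and, modulo the
centre, with each other.
-/

set_option autoImplicit false

namespace CfsgLib.Pres.SU.Rank1

open Matrix CfsgLib.Classical CfsgLib.Classical.Unitary
open scoped MatrixGroups commutatorElement

variable {F : Type*} [Field F] {σ : F →+* F}

namespace Par

variable (P : Par σ) [Finite F]

/-- At most twelve relations forcing the commutation. -/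
def HasExtra (zw : FreeGroup (Fin 3)) : Prop :=
  ∃ L : List (FreeGroup (Fin 3)), L.length ≤ 12 ∧ (∀ w ∈ L, FreeGroup.lift P.f w = 1) ∧
    ∀ (X : Type) [Group X] (g : Fin 3 → X) (a : F → X), P.Real zw g a →
      g 1 ^ orderOf P.ω = 1 → (∀ w ∈ L, FreeGroup.lift g w = 1) →
      (∀ i : ℕ, Commute (a 1) (g 1 ^ i * g 0 * (g 1 ^ i)⁻¹)) ∧
        ∀ i : ℕ, ∃ t, σ t = t ∧ ⁅g 0, g 1 ^ i * g 0 * (g 1 ^ i)⁻¹⁆ = a t

/-- The data of a realisation. -/
noncomputable def zData {zw : FreeGroup (Fin 3)} {X : Type} [Group X] {g : Fin 3 → X} {a : F → X}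
    (R : P.Real zw g a) (hord : g 1 ^ orderOf P.ω = 1) : ZData σ ((P.ω : F) * σ P.ω) X where
  u := g 0
  h := g 1
  z := a
  N := orderOf P.ω
  hN := (isOfFinOrder_of_finite P.ω).orderOf_pos
  hord := hord
  hν := by rw [map_mul, P.hσ, mul_comm]
  hν0 := mul_ne_zero P.ω.ne_zero (by simp)
  hgen := P.hω'
  z_add := R.add
  z_conj := R.conj

omit [Finite F] in
theorem commutes_centre {M Z : HU σ} {x y y' : F} (hM : IsU M x y) (hZ : IsU Z 0 y') :
    M * Z = Z * M :=
  (hM.mul hZ).eq (by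
    have := hZ.mul hM
    convert this using 1 <;> simp [add_comm])

omit [Finite F] in
theorem isU_comm_cw {M : HU σ} {x y : F} (hM : IsU M x y) (i : ℕ) :
    ∃ y', IsU ⁅M, FreeGroup.lift P.f (cw i)⁆ 0 y' :=
  ⟨_, hM.comm P.hσ (P.isU_cw i)⟩

/-- The first six conjugates. -/
theorem hasExtra_six {zw : FreeGroup (Fin 3)} (hzw : IsU (FreeGroup.lift P.f zw) 0 P.δ)
    (h6 : AddSubgroup.closure ((fun i : ℕ => mult σ P.ω ^ i) '' {i | i < 6}) = ⊤) :
    P.HasExtra zw := by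
  classical
  obtain ⟨v, hv, hvm⟩ := P.exists_cword h6 (P.isU_cw 6)
  have hexab : ∀ i, ∃ r, FreeGroup.lift P.f r = 1 ∧
      ∀ (X : Type) [Group X] (g : Fin 3 → X) (a : F → X), P.Real zw g a →
        FreeGroup.lift g r = 1 → ∃ t, σ t = t ∧ FreeGroup.lift g ⁅Uw, cw i⁆ = a t := fun i => by
    obtain ⟨y', e⟩ := P.isU_comm_cw P.f0 i
    exact P.exists_zrel hzw ⁅Uw, cw i⁆ (by
      rw [map_commutatorElement]; simpa [Uw] using e)
  choose r hr hru using hexab
  refine ⟨(List.range 6).map (fun i => ⁅zw, cw i⁆) ++ [cw 6 * v⁻¹] ++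
    (List.range 5).map (fun i => r (i + 1)), by simp, ?_, ?_⟩
  · intro w hw
    simp only [List.mem_append, List.mem_map, List.mem_range, List.mem_singleton] at hw
    rcases hw with (⟨i, -, rfl⟩ | rfl) | ⟨i, -, rfl⟩
    · rw [map_commutatorElement, commutatorElement_eq_one_iff_mul_comm]
      exact (commutes_centre (P.isU_cw i) hzw).symm
    · rw [map_mul, map_inv, hv, mul_inv_cancel]
    · exact hr _
  · intro X _ g a R hord hL
    let D := P.zData R hord
    have hv' : g 1 ^ 6 * g 0 * (g 1 ^ 6)⁻¹ ∈ conjsOn (g 1) (g 0) {i | i < 6} := by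
      have e := hL (cw 6 * v⁻¹) (by simp)
      rw [map_mul, map_inv, mul_inv_eq_one, lift_cw] at e
      rw [e]
      exact hvm X g
    have h0 : g 0 ∈ conjsOn (g 1) (g 0) {i | i < 6} :=
      Subgroup.subset_closure ⟨0, show (0 : ℕ) < 6 by omega, by simp⟩
    have hst : ∀ w ∈ conjsOn (g 1) (g 0) {i | i < 6},
        g 1 * w * (g 1)⁻¹ ∈ conjsOn (g 1) (g 0) {i | i < 6} := by
      intro w hw
      have hle : conjsOn (g 1) (g 0) {i | i < 6} ≤
          (conjsOn (g 1) (g 0) {i | i < 6}).comap (MulAut.conj (g 1)).toMonoidHom := by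
        refine (Subgroup.closure_le _).2 ?_
        rintro _ ⟨i, hi, rfl⟩
        show g 1 * (g 1 ^ i * g 0 * (g 1 ^ i)⁻¹) * (g 1)⁻¹ ∈ conjsOn (g 1) (g 0) {i | i < 6}
        rw [show g 1 * (g 1 ^ i * g 0 * (g 1 ^ i)⁻¹) * (g 1)⁻¹ =
          g 1 ^ (i + 1) * g 0 * (g 1 ^ (i + 1))⁻¹ by rw [pow_succ']; group]
        rcases Nat.lt_or_ge (i + 1) 6 with h | h
        · exact Subgroup.subset_closure ⟨i + 1, h, rfl⟩
        · rw [show i + 1 = 6 by simp only [Set.mem_setOf_eq] at hi; omega]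
          exact hv'
      exact hle hw
    have hcomm := D.comm_all h0 hst fun i hi => by
      show Commute (a 1) _
      rw [R.one]
      have e := hL ⁅zw, cw i⁆ (by simp; exact Or.inl ⟨i, hi, rfl⟩)
      rw [map_commutatorElement, commutatorElement_eq_one_iff_commute, lift_cw] at e
      exact e
    refine ⟨hcomm, fun i => D.ab_all hcomm h0 hst (fun k hk => ?_) i⟩
    rcases k with _ | k
    · simpa [D, zData] using D.S.one_mem
    · obtain ⟨t, ht, e⟩ := hru (k + 1) X g a R (hL _ (by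
        simp only [List.mem_append, List.mem_map, List.mem_range]
        exact Or.inr ⟨k, by simp only [Set.mem_setOf_eq] at hk; omega, rfl⟩))
      rw [map_commutatorElement, lift_cw] at e
      exact ⟨t, ht, by simpa [Uw, D, zData] using e⟩

/-- The conjugates under the kernel of the norm. -/
theorem hasExtra_norm {zw : FreeGroup (Fin 3)} (hzw : IsU (FreeGroup.lift P.f zw) 0 P.δ) (ξ : Fˣ)
    (hξ : (ξ : F) * σ ξ = 1)
    (hspan : AddSubgroup.closure (Set.range fun i : ℕ => mult σ ξ ^ i) = ⊤)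
    (hc : ∃ c : Fˣ, mult σ c = 1 - mult σ ξ) : P.HasExtra zw := by
  obtain ⟨c, hc⟩ := hc
  obtain ⟨m, rfl⟩ := P.hω ξ
  obtain ⟨j, rfl⟩ := P.hω c
  rw [mult_pow] at hc
  have hm : mult σ (P.ω ^ m) = mult σ P.ω ^ m := mult_pow ..
  rw [hm] at hc hspan
  set I : Set ℕ := Set.range fun i => m * i with hIdef
  have hI : AddSubgroup.closure ((fun i : ℕ => mult σ P.ω ^ i) '' I) = ⊤ := by
    rw [← hspan, hIdef, ← Set.range_comp]
    simp [Function.comp_def, pow_mul]
  obtain ⟨v, hv, hvm⟩ := P.exists_cword hI (P.isU_cw 1)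
  obtain ⟨y₁, e₁⟩ := P.isU_comm_cw P.f0 m
  obtain ⟨r₁, hr₁, hr₁u⟩ := P.exists_zrel hzw ⁅Uw, cw m⁆ (by
    rw [map_commutatorElement]; simpa [Uw] using e₁)
  obtain ⟨r₂, hr₂, hr₂u⟩ : ∃ r, FreeGroup.lift P.f r = 1 ∧
      ∀ (X : Type) [Group X] (g : Fin 3 → X) (a : F → X), P.Real zw g a →
        FreeGroup.lift g r = 1 →
          ∃ t, σ t = t ∧ FreeGroup.lift g (cw j * ((cw m)⁻¹ * Uw)⁻¹) = a t := by
    have e := (P.isU_cw j).mul (((P.isU_cw m).inv P.hσ).mul P.f0 |>.inv P.hσ)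
    rw [show mult σ P.ω ^ j + -(-mult σ P.ω ^ m + 1) = 0 by linear_combination hc] at e
    exact P.exists_zrel hzw _ (by
      simp only [map_mul, map_inv]
      simpa [Uw] using e)
  refine ⟨[⁅zw, Hw ^ m⁆, ⁅zw, Uw⁆, cw 1 * v⁻¹, r₁, r₂], by simp, ?_, ?_⟩
  · simp only [List.forall_mem_cons, List.not_mem_nil, IsEmpty.forall_iff, implies_true, and_true]
    refine ⟨?_, ?_, by rw [map_mul, map_inv, hv, mul_inv_cancel], hr₁, hr₂⟩
    · rw [map_commutatorElement, commutatorElement_eq_one_iff_mul_comm]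
      have e := P.isU_conj hzw m
      rw [mul_zero, mul_pow, ← map_pow, ← Units.val_pow_eq_pow_val, hξ, one_mul] at e
      rw [map_pow, Hw, FreeGroup.lift_apply_of]
      exact (mul_inv_eq_iff_eq_mul.1 (e.eq hzw)).symm
    · rw [map_commutatorElement, commutatorElement_eq_one_iff_mul_comm, Uw,
        FreeGroup.lift_apply_of]
      exact (commutes_centre P.f0 hzw).symm
  · intro X _ g a R hord hL
    simp only [List.forall_mem_cons, List.not_mem_nil, IsEmpty.forall_iff, implies_true, and_true,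
      map_commutatorElement, commutatorElement_eq_one_iff_commute, map_pow] at hL
    obtain ⟨hzk, hzu, hvr, h1, h2⟩ := hL
    simp only [Hw, FreeGroup.lift_apply_of] at hzk
    simp only [Uw, FreeGroup.lift_apply_of] at hzu
    rw [map_mul, map_inv, mul_inv_eq_one, lift_cw, pow_one] at hvr
    let D := P.zData R hord
    have hu0 : g 1 * g 0 * (g 1)⁻¹ ∈ conjsOn (g 1) (g 0) I := by rw [hvr]; exact hvm X g
    have h0 : g 0 ∈ conjsOn (g 1) (g 0) I := Subgroup.subset_closure ⟨0, ⟨0, by simp⟩, by simp⟩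
    have hkst : ∀ i : ℕ, ∀ w ∈ conjsOn (g 1) (g 0) I,
        g 1 ^ (m * i) * w * (g 1 ^ (m * i))⁻¹ ∈ conjsOn (g 1) (g 0) I := by
      intro i w hw
      have hle : conjsOn (g 1) (g 0) I ≤
          (conjsOn (g 1) (g 0) I).comap (MulAut.conj (g 1 ^ (m * i))).toMonoidHom := by
        refine (Subgroup.closure_le _).2 ?_
        rintro _ ⟨_, ⟨k, rfl⟩, rfl⟩
        show g 1 ^ (m * i) * (g 1 ^ (m * k) * g 0 * (g 1 ^ (m * k))⁻¹) * (g 1 ^ (m * i))⁻¹ ∈
          conjsOn (g 1) (g 0) I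
        rw [FieldAdd.conj_pow, ← Nat.mul_add]
        exact Subgroup.subset_closure ⟨_, ⟨i + k, rfl⟩, rfl⟩
      exact hle hw
    have hst : ∀ w ∈ conjsOn (g 1) (g 0) I, g 1 * w * (g 1)⁻¹ ∈ conjsOn (g 1) (g 0) I := by
      intro w hw
      have hle : conjsOn (g 1) (g 0) I ≤
          (conjsOn (g 1) (g 0) I).comap (MulAut.conj (g 1)).toMonoidHom := by
        refine (Subgroup.closure_le _).2 ?_
        rintro _ ⟨_, ⟨k, rfl⟩, rfl⟩
        show g 1 * (g 1 ^ (m * k) * g 0 * (g 1 ^ (m * k))⁻¹) * (g 1)⁻¹ ∈ conjsOn (g 1) (g 0) I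
        have hc : g 1 * g 1 ^ (m * k) = g 1 ^ (m * k) * g 1 := by rw [← pow_succ', ← pow_succ]
        rw [show g 1 * (g 1 ^ (m * k) * g 0 * (g 1 ^ (m * k))⁻¹) * (g 1)⁻¹ =
          (g 1 * g 1 ^ (m * k)) * g 0 * (g 1 * g 1 ^ (m * k))⁻¹ by group, hc,
          show g 1 ^ (m * k) * g 1 * g 0 * (g 1 ^ (m * k) * g 1)⁻¹ =
          g 1 ^ (m * k) * (g 1 * g 0 * (g 1)⁻¹) * (g 1 ^ (m * k))⁻¹ by group]
        exact hkst k _ hu0
      exact hle hw
    have hcomm := D.comm_all h0 hst fun i hi => by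
      obtain ⟨k, rfl⟩ := hi
      show Commute (a 1) (g 1 ^ (m * k) * g 0 * (g 1 ^ (m * k))⁻¹)
      rw [R.one, pow_mul]
      exact ((hzk.pow_right k).mul_right hzu).mul_right (hzk.pow_right k).inv_right
    refine ⟨hcomm, fun i => D.ab_all hcomm h0 hst (fun k hk => ?_) i⟩
    obtain ⟨l, rfl⟩ := hk
    refine D.ab_crw (m := m) (j := j) hcomm ?_ ?_ l
    · obtain ⟨t, ht, e⟩ := hr₁u X g a R h1
      rw [map_commutatorElement, lift_cw] at e
      exact ⟨t, ht, by simpa [Uw, D, zData] using e⟩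
    · obtain ⟨t, ht, e⟩ := hr₂u X g a R h2
      rw [map_mul, map_inv, map_mul, map_inv, lift_cw, lift_cw] at e
      exact ⟨t, ht, by simpa [Uw, D, zData] using e⟩

end Par

end CfsgLib.Pres.SU.Rank1
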