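import Cfsg.Agent.Lib.Classical.UnitaryTransv
import Cfsg.Agent.Lib.Classical.UnitaryFrame

/-!
The special unitary group of an arbitrary Gram matrix, and the isomorphism with the group of the
standard form given by a basis with that Gram matrix.
-/

set_option autoImplicit false

namespace CfsgLib.Pres.SU.Rank1

open Matrix CfsgLib.Classical CfsgLib.Classical.Unitary
open scoped MatrixGroups

variable {F : Type*} [Field F] {q n : ℕ}

/-- The special unitary group of a Gram matrix. -/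
def GramSU (σ : F →+* F) (J : Matrix (Fin n) (Fin n) F) : Subgroup SL(n, F) where
  carrier := {g | g.1ᵀ * J * g.1.map σ = J}
  one_mem' := by simp
  mul_mem' {a b} ha hb := by
    show (a.1 * b.1)ᵀ * J * (a.1 * b.1).map σ = J
    rw [transpose_mul, Matrix.map_mul,
      show b.1ᵀ * a.1ᵀ * J * (a.1.map σ * b.1.map σ) = b.1ᵀ * (a.1ᵀ * J * a.1.map σ) * b.1.map σ by
        simp only [mul_assoc]]
    rw [ha]
    exact hb
  inv_mem' {a} ha := by
    show (a⁻¹).1ᵀ * J * (a⁻¹).1.map σ = J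
    have e2 : a.1 * (a⁻¹).1 = 1 := congrArg Subtype.val (mul_inv_cancel a)
    conv_lhs => rw [← show a.1ᵀ * J * a.1.map σ = J from ha]
    rw [show (a⁻¹).1ᵀ * (a.1ᵀ * J * a.1.map σ) * (a⁻¹).1.map σ =
      ((a⁻¹).1ᵀ * a.1ᵀ) * J * (a.1.map σ * (a⁻¹).1.map σ) by simp only [mul_assoc],
      ← transpose_mul, e2, ← Matrix.map_mul, e2]
    simp

variable {σ : F →+* F}

theorem mem_SU_iff_gram (h : UFrob σ q) (M : SL(n, F)) :
    M ∈ Cfsg.SU n F q ↔ M.1ᵀ * M.1.map σ = 1 := by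
  have hu : ∀ x y : Fin n → F,
      uh σ (M.1 *ᵥ x) (M.1 *ᵥ y) = x ⬝ᵥ ((M.1ᵀ * M.1.map σ) *ᵥ (σ ∘ y)) := fun x y => by
    have : σ ∘ (M.1 *ᵥ y) = M.1.map σ *ᵥ (σ ∘ y) := by
      funext i
      exact RingHom.map_mulVec σ M.1 y i
    rw [uh, this, ← mulVec_mulVec, dotProduct_mulVec x, vecMul_transpose]
  constructor
  · intro hM
    ext i j
    have := mem_SU_iff.1 hM (Pi.single i 1) (Pi.single j 1)
    rw [h.hermForm_eq, h.hermForm_eq, hu] at this
    simpa [uh_single_left, Pi.single_apply, Matrix.one_apply, Function.comp_def,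
      Matrix.mulVec, dotProduct, apply_ite σ] using this
  · intro hM
    refine mem_SU_iff.2 fun x y => ?_
    rw [h.hermForm_eq, h.hermForm_eq, hu, hM, one_mulVec, uh]

/-- A basis with the Gram matrix `J` gives an isomorphism. -/
theorem iso_of_frame (h : UFrob σ q) {J P : Matrix (Fin n) (Fin n) F} (hP : Pᵀ * P.map σ = J)
    (hJ : J.det ≠ 0) : Nonempty (GramSU σ J ≃* Cfsg.SU n F q) := by
  have hdet : IsUnit P.det := by
    rw [isUnit_iff_ne_zero]
    intro e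
    exact hJ (by rw [← hP, det_mul, det_transpose, e, zero_mul])
  have hQ : P⁻¹ * P = 1 := Matrix.nonsing_inv_mul P hdet
  have hQ' : P * P⁻¹ = 1 := Matrix.mul_nonsing_inv P hdet
  have hQd : P.det * (P⁻¹).det = 1 := by rw [← det_mul, hQ', det_one]
  have hJQ : (P⁻¹)ᵀ * J * (P⁻¹).map σ = 1 := by
    rw [← hP, show (P⁻¹)ᵀ * (Pᵀ * P.map σ) * (P⁻¹).map σ =
      ((P⁻¹)ᵀ * Pᵀ) * (P.map σ * (P⁻¹).map σ) by simp only [mul_assoc],
      ← transpose_mul, hQ', ← Matrix.map_mul, hQ']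
    simp
  let f : SL(n, F) ≃* SL(n, F) :=
    { toFun := fun M => ⟨P * M.1 * P⁻¹, by rw [det_mul, det_mul, M.2, mul_one, hQd]⟩
      invFun := fun M => ⟨P⁻¹ * M.1 * P, by rw [det_mul, det_mul, M.2, mul_one, mul_comm, hQd]⟩
      left_inv := fun M => Subtype.ext (by
        show P⁻¹ * (P * M.1 * P⁻¹) * P = M.1
        rw [show P⁻¹ * (P * M.1 * P⁻¹) * P = (P⁻¹ * P) * M.1 * (P⁻¹ * P) by simp only [mul_assoc],
          hQ, one_mul, mul_one])
      right_inv := fun M => Subtype.ext (by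
        show P * (P⁻¹ * M.1 * P) * P⁻¹ = M.1
        rw [show P * (P⁻¹ * M.1 * P) * P⁻¹ = (P * P⁻¹) * M.1 * (P * P⁻¹) by simp only [mul_assoc],
          hQ', one_mul, mul_one])
      map_mul' := fun M M' => Subtype.ext (by
        show P * (M.1 * M'.1) * P⁻¹ = P * M.1 * P⁻¹ * (P * M'.1 * P⁻¹)
        rw [show P * M.1 * P⁻¹ * (P * M'.1 * P⁻¹) = P * M.1 * (P⁻¹ * P) * M'.1 * P⁻¹ by
          simp only [mul_assoc], hQ, mul_one]
        simp only [mul_assoc]) }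
  have hmap : (GramSU σ J).map f.toMonoidHom = Cfsg.SU n F q := by
    ext M
    rw [Subgroup.mem_map_equiv, mem_SU_iff_gram h]
    show (f.symm M).1ᵀ * J * (f.symm M).1.map σ = J ↔ _
    show (P⁻¹ * M.1 * P)ᵀ * J * (P⁻¹ * M.1 * P).map σ = J ↔ _
    rw [transpose_mul, transpose_mul, Matrix.map_mul, Matrix.map_mul,
      show Pᵀ * (M.1ᵀ * (P⁻¹)ᵀ) * J * ((P⁻¹).map σ * M.1.map σ * P.map σ) =
        Pᵀ * (M.1ᵀ * ((P⁻¹)ᵀ * J * (P⁻¹).map σ) * M.1.map σ) * P.map σ by simp only [mul_assoc],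
      hJQ, mul_one]
    constructor
    · intro e
      have e' := congrArg (fun X => (P⁻¹)ᵀ * X * (P⁻¹).map σ) e
      simp only [hJQ] at e'
      rw [show (P⁻¹)ᵀ * (Pᵀ * (M.1ᵀ * M.1.map σ) * P.map σ) * (P⁻¹).map σ =
        ((P⁻¹)ᵀ * Pᵀ) * (M.1ᵀ * M.1.map σ) * (P.map σ * (P⁻¹).map σ) by simp only [mul_assoc],
        ← transpose_mul, hQ', ← Matrix.map_mul, hQ'] at e'
      simpa using e'
    · intro e
      rw [e, mul_one, hP]
  exact ⟨(f.subgroupMap (GramSU σ J)).trans (MulEquiv.subgroupCongr hmap)⟩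

end CfsgLib.Pres.SU.Rank1
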