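import Cfsg.Agent.Lib.Pres.SU.Rank1.Extra
import Cfsg.Agent.Lib.Pres.OnGens

/-!
The presentation of the three dimensional unitary group on three generators.
-/

set_option autoImplicit false

namespace CfsgLib.Pres.SU.Rank1

open Matrix Polynomial CfsgLib.Classical CfsgLib.Classical.Unitary
open scoped MatrixGroups commutatorElement

variable {F : Type*} [Field F] {σ : F →+* F}

namespace Par

variable (P : Par σ) [Finite F]

theorem isU_pw (M : ℤ[X]) :
    ∃ y, IsU (FieldModule.pw (P.f 1) (P.f 0) M) (aeval (mult σ P.ω) M) y := by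
  have key : ∀ l : List ℕ, ∃ y,
      IsU ((l.map fun i => (P.f 1 ^ i * P.f 0 * (P.f 1 ^ i)⁻¹) ^ M.coeff i).prod)
        ((l.map fun i => (M.coeff i : F) * mult σ P.ω ^ i).sum) y := by
    intro l
    induction l with
    | nil => exact ⟨0, IsU.one⟩
    | cons i l ih =>
      obtain ⟨y, e⟩ := ih
      obtain ⟨y', e'⟩ := zpow_isU P.hσ (P.isU_conj P.f0 i) (M.coeff i)
      rw [List.map_cons, List.prod_cons, List.map_cons, List.sum_cons]
      rw [mul_one] at e'
      exact ⟨_, e'.mul e⟩
  obtain ⟨y, e⟩ := key (List.range (M.natDegree + 1))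
  refine ⟨y, ?_⟩
  rw [show aeval (mult σ P.ω) M =
    ((List.range (M.natDegree + 1)).map fun i => (M.coeff i : F) * mult σ P.ω ^ i).sum by
      rw [aeval_eq_sum_range]
      simp only [zsmul_eq_mul]
      rfl]
  exact e

open _root_.Classical in
/-- The additive family of the model. -/
noncomputable def za (t : F) : HU σ :=
  if ht : σ t = t then uE P.hσ 0 (t * P.δ) (by simp [Ok, ht, P.hδ]) else 1

omit [Finite F] in
theorem isU_za {t : F} (ht : σ t = t) : IsU (P.za t) 0 (t * P.δ) := by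
  rw [za, dif_pos ht]; exact isU_uE ..

omit [Finite F] in
theorem za_add (s t : F) (hs : σ s = s) (ht : σ t = t) : P.za s * P.za t = P.za (s + t) := by
  have e := (P.isU_za hs).mul (P.isU_za ht)
  rw [add_zero, mul_zero, sub_zero, ← add_mul] at e
  exact e.eq (P.isU_za (by rw [map_add, hs, ht]))

omit [Finite F] in
theorem za_conj (t : F) (ht : σ t = t) :
    P.f 1 * P.za t * (P.f 1)⁻¹ = P.za ((P.ω : F) * σ P.ω * t) := by
  have e := P.isU_conj (P.isU_za ht) 1
  rw [pow_one, pow_one, pow_one, mul_zero, ← mul_assoc] at e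
  exact e.eq (P.isU_za (by rw [map_mul σ _ t, map_mul, P.hσ, ht, mul_comm (σ (P.ω : F))]))

set_option maxHeartbeats 800000 in
/-- The presentation. -/
theorem exists_pres (p : ℕ) [Fact p.Prime] [CharP F p]
    (hI : AddSubgroup.closure ((fun i : ℕ => mult σ P.ω ^ i) '' Set.univ) = ⊤)
    (hex : ∀ zw, IsU (FreeGroup.lift P.f zw) 0 P.δ → P.HasExtra zw) :
    ∃ L : List (FreeGroup (Fin 3)), L.length ≤ 23 ∧ PresData P.f L := by
  classical
  obtain ⟨zw, hzw', hzwm⟩ := P.exists_cword hI (P.isU_za (map_one σ))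
  have hzw : IsU (FreeGroup.lift P.f zw) 0 P.δ := by
    rw [hzw']; simpa using P.isU_za (map_one σ)
  obtain ⟨LX, hLX, hLXh, hLXu⟩ := hex zw hzw
  -- the fixed field
  let K := σ.eqLocusField (RingHom.id F)
  have : CharP K p := K.subtype.charP K.subtype.injective p
  obtain ⟨LZ, hLZ, hLZh, hLZu⟩ := FieldAdd.exists_rels (F := K) p
    (ω := ⟨(P.ω : F) * σ P.ω, show σ _ = _ by rw [map_mul, P.hσ, mul_comm]; rfl⟩) fun t ht => by
      obtain ⟨i, hi⟩ := P.hω' t t.2 fun e => ht (Subtype.ext e)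
      exact ⟨i, Subtype.ext (by simpa using hi)⟩
  let τ : FreeGroup Bool →* FreeGroup (Fin 3) := FreeGroup.lift fun b => cond b zw Hw
  have hτ : ∀ {Y : Type} [Group Y] (x : Fin 3 → Y) (w : FreeGroup Bool),
      FreeGroup.lift x (τ w) = FreeGroup.lift (cond · (FreeGroup.lift x zw) (x 1)) w :=
    fun x w => DFunLike.congr_fun (FreeGroup.ext_hom ((FreeGroup.lift x).comp τ) (FreeGroup.lift _)
      fun b => by cases b <;> simp [τ, Hw]) w
  have hτf : ∀ w : FreeGroup Bool,
      FreeGroup.lift P.f (τ w) = FreeGroup.lift (cond · (FreeGroup.lift P.f zw) (P.f 1)) w :=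
    fun w => DFunLike.congr_fun (FreeGroup.ext_hom ((FreeGroup.lift P.f).comp τ) (FreeGroup.lift _)
      fun b => by cases b <;> simp [τ, Hw]) w
  -- the exponent and the polynomial
  obtain ⟨M, hMμ, hM⟩ := FieldModule.exists_lift_minpoly p (mult σ P.ω)
  obtain ⟨rp, hrp, hrpu⟩ : ∃ r, FreeGroup.lift P.f r = 1 ∧
      ∀ (X : Type) [Group X] (g : Fin 3 → X) (a : F → X), P.Real zw g a →
        FreeGroup.lift g r = 1 → ∃ t, σ t = t ∧ FreeGroup.lift g (Uw ^ p) = a t := by
    obtain ⟨y, e⟩ := zpow_isU P.hσ P.f0 (p : ℤ)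
    rw [Int.cast_natCast, CharP.cast_eq_zero F p, zero_mul, zpow_natCast] at e
    exact P.exists_zrel hzw _ (by rw [map_pow, Uw, FreeGroup.lift_apply_of]; exact e)
  obtain ⟨rM, hrM, hrMu⟩ : ∃ r, FreeGroup.lift P.f r = 1 ∧
      ∀ (X : Type) [Group X] (g : Fin 3 → X) (a : F → X), P.Real zw g a →
        FreeGroup.lift g r = 1 →
          ∃ t, σ t = t ∧ FreeGroup.lift g (FieldModule.pw Hw Uw M) = a t := by
    obtain ⟨y, e⟩ := P.isU_pw M
    rw [hMμ] at e
    exact P.exists_zrel hzw _ (by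
      rw [FieldModule.map_pw, Uw, Hw, FreeGroup.lift_apply_of, FreeGroup.lift_apply_of]; exact e)
  -- the Weyl element
  obtain ⟨j, hj⟩ := P.hω (Units.map σ.toMonoidHom P.ω)⁻¹
  obtain ⟨rz, hrz, hrzu⟩ := P.exists_cellrel hI zw hzw P.hδ0
  obtain ⟨ru, hru, hruu⟩ := P.exists_cellrel hI Uw (x := 1) (y := P.y₀)
    (by rw [Uw, FreeGroup.lift_apply_of]; exact P.f0) (Weyl.y_ne_zero P.ok0 one_ne_zero)
  set L := [Hw ^ orderOf P.ω, rp, rM, Nw * Nw, Nw * Hw * Nw * (Hw ^ j)⁻¹, rz, ru] ++
    LZ.map τ ++ LX with hL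
  have hhold : ∀ w ∈ L, FreeGroup.lift P.f w = 1 := by
    intro w hw
    simp only [hL, List.mem_append, List.mem_cons, List.not_mem_nil, or_false, List.mem_map] at hw
    rcases hw with ((rfl | rfl | rfl | rfl | rfl | rfl | rfl) | ⟨w', hw', rfl⟩) | hw
    · rw [map_pow, Hw, FreeGroup.lift_apply_of, P.f1, ← map_pow, pow_orderOf_eq_one, map_one]
    · exact hrp
    · exact hrM
    · rw [map_mul, Nw, FreeGroup.lift_apply_of, P.f2, nW_sq]
    · rw [map_mul, map_inv, mul_inv_eq_one, map_mul, map_mul, map_pow, Nw, Hw,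
        FreeGroup.lift_apply_of, FreeGroup.lift_apply_of, P.f1, P.f2, ← map_pow, hj, nW_hH]
    · exact hrz
    · exact hru
    · rw [hτf]
      have h1 : FreeGroup.lift P.f zw = P.za 1 := hzw'
      rw [h1]
      exact hLZh _ (fun t : K => P.za t) (P.f 1) (fun s t => P.za_add _ _ s.2 t.2)
        (fun t => P.za_conj _ t.2) w' hw'
    · exact hLXh w hw
  refine ⟨L, by simp [hL]; omega, ?_⟩
  -- the presented group
  let R : Set (FreeGroup (Fin 3)) := {w | w ∈ L}
  let π : PresentedGroup R →* HU σ := PresentedGroup.toGroup (rels := R) fun w hw => hhold w hw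
  have hπg : ∀ i, π (PresentedGroup.of i) = P.f i := fun i => PresentedGroup.toGroup.of _
  let g : Fin 3 → PresentedGroup R := fun i => PresentedGroup.of i
  have hx : ∀ w ∈ L, FreeGroup.lift g w = 1 := fun w hw => by
    rw [val_eq_lift]; exact PresentedGroup.one_of_mem hw
  have hπl : ∀ w, π (FreeGroup.lift g w) = FreeGroup.lift P.f w := fun w =>
    DFunLike.congr_fun (FreeGroup.ext_hom (π.comp (FreeGroup.lift g)) (FreeGroup.lift P.f)
      fun i => by simp [g, hπg]) w
  obtain ⟨a', ha'add, ha'1, -, ha'h⟩ := hLZu _ (FreeGroup.lift g zw) (g 1) fun w hw => by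
    rw [← hτ]
    exact hx _ (by simp only [hL, List.mem_append]; exact Or.inl (Or.inr (List.mem_map_of_mem hw)))
  let a : F → PresentedGroup R := fun t => if ht : σ t = t then a' ⟨t, ht⟩ else 1
  have hR : P.Real zw g a := by
    refine ⟨?_, fun s t hs ht => ?_, fun t ht => ?_⟩
    · simp only [a, dif_pos (map_one σ)]; exact ha'1
    · simp only [a, dif_pos hs, dif_pos ht,
        dif_pos (show σ (s + t) = s + t by rw [map_add, hs, ht])]
      exact ha'add _ _
    · simp only [a, dif_pos ht, dif_pos (show σ ((P.ω : F) * σ P.ω * t) = (P.ω : F) * σ P.ω * t by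
        rw [map_mul σ _ t, map_mul, P.hσ, ht, mul_comm (σ (P.ω : F))])]
      exact ha'h _
  have hord : g 1 ^ orderOf P.ω = 1 := by
    have := hx (Hw ^ orderOf P.ω) (by simp [hL])
    rwa [map_pow, Hw, FreeGroup.lift_apply_of] at this
  obtain ⟨hcomm, hab⟩ := hLXu _ g a hR hord fun w hw => hx w (by simp [hL, hw])
  have hspan : ∀ t : F, ∃ f : ℤ[X], aeval (mult σ P.ω) f = t := by
    intro t
    have : t ∈ AddSubgroup.closure ((fun i : ℕ => mult σ P.ω ^ i) '' Set.univ) := by
      rw [hI]; trivial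
    refine AddSubgroup.closure_induction (p := fun t _ => ∃ f : ℤ[X], aeval (mult σ P.ω) f = t)
      ?_ ?_ ?_ ?_ this
    · rintro _ ⟨i, -, rfl⟩; exact ⟨Polynomial.X ^ i, by simp⟩
    · exact ⟨0, map_zero _⟩
    · rintro _ _ _ _ ⟨f, rfl⟩ ⟨f', rfl⟩; exact ⟨f + f', map_add ..⟩
    · rintro _ _ ⟨f, rfl⟩; exact ⟨-f, map_neg ..⟩
  have key : ∀ {v}, v ∈ conjsOn (g 1) (g 0) Set.univ → v ∈ conjs (g 1) (g 0) := fun {v} hv => by
    rw [conjsOn, Set.image_univ] at hv
    exact hv
  let D : Weyl σ p (PresentedGroup R) :=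
    { hσ := P.hσ
      π := π
      u := g 0
      h := g 1
      z := a
      N := orderOf P.ω
      hN := (isOfFinOrder_of_finite P.ω).orderOf_pos
      hord := hord
      ω := P.ω
      hω := P.hω
      hω' := P.hω'
      δ := P.δ
      hδ := P.hδ
      hδ0 := P.hδ0
      x₀ := 1
      y₀ := P.y₀
      hx₀ := one_ne_zero
      πu := by rw [hπg]; exact P.f0
      πh := hπg 1
      z_add := hR.add
      z_conj := hR.conj
      πz := by rw [hR.one, hπl]; exact hzw
      z_mem := by rw [hR.one]; exact key (hzwm _ g)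
      comm := hcomm
      ab := hab
      pth := by
        obtain ⟨t, ht, e⟩ := hrpu _ g a hR (hx rp (by simp [hL]))
        rw [map_pow, Uw, FreeGroup.lift_apply_of] at e
        exact ⟨t, ht, e⟩
      M := M
      hM := hM
      mrel := by
        obtain ⟨t, ht, e⟩ := hrMu _ g a hR (hx rM (by simp [hL]))
        rw [FieldModule.map_pw, Uw, Hw, FreeGroup.lift_apply_of, FreeGroup.lift_apply_of] at e
        exact ⟨t, ht, e⟩
      hsurj := hspan
      hNω := fun i e => orderOf_dvd_of_pow_eq_one e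
      n := g 2
      n2 := by
        have := hx (Nw * Nw) (by simp [hL])
        rwa [map_mul, Nw, FreeGroup.lift_apply_of] at this
      πn := hπg 2
      nh := ⟨j, by
        have := hx (Nw * Hw * Nw * (Hw ^ j)⁻¹) (by simp [hL])
        rwa [map_mul, map_inv, mul_inv_eq_one, map_mul, map_mul, map_pow, Nw, Hw,
          FreeGroup.lift_apply_of, FreeGroup.lift_apply_of] at this⟩
      relz := by rw [hR.one]; exact hrzu _ g (hx rz (by simp [hL]))
      relu := by
        have := hruu _ g (hx ru (by simp [hL]))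
        rwa [Uw, FreeGroup.lift_apply_of] at this
      hg := P.hg
      top := by
        rw [eq_top_iff, ← PresentedGroup.closure_range_of R]
        refine Subgroup.closure_mono ?_
        rintro _ ⟨i, rfl⟩
        fin_cases i <;> simp [g] }
  let e := MulEquiv.ofBijective π D.π_bijective
  refine ⟨hhold, ?_, fun Y _ y hy _ => ?_⟩
  · rw [show Set.range P.f = e.toMonoidHom '' Set.range (PresentedGroup.of (rels := R)) by
      rw [← Set.range_comp]; exact congrArg Set.range (funext fun i => (hπg i).symm),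
      ← MonoidHom.map_closure, PresentedGroup.closure_range_of]
    exact Subgroup.map_top_of_surjective _ e.surjective
  · refine ⟨(PresentedGroup.toGroup (rels := R) fun w hw => hy w hw).comp e.symm.toMonoidHom,
      fun i => ?_⟩
    have : e.symm (P.f i) = PresentedGroup.of i := by
      rw [MulEquiv.symm_apply_eq]; exact (hπg i).symm
    simp [this]

end Par

end CfsgLib.Pres.SU.Rank1
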