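import Cfsg.Agent.Lib.Pres.SU.Rank1.Frame
import Cfsg.Agent.Lib.Classical.SU2

/-!
The three dimensional special unitary group of a hyperbolic pair and a unit vector: root elements,
torus, Weyl element and the decomposition in two cells.
-/

set_option autoImplicit false

namespace CfsgLib.Pres.SU.Rank1

open Matrix CfsgLib.Classical CfsgLib.Classical.Unitary
open scoped MatrixGroups

variable {F : Type*} [Field F] {σ : F →+* F} {q : ℕ}

/-- The Gram matrix. -/
def J3 (F : Type*) [Field F] : Matrix (Fin 3) (Fin 3) F := !![0, 0, 1; 0, 1, 0; 1, 0, 0]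

/-- The special unitary group of a hyperbolic pair and a unit vector. -/
abbrev HU (σ : F →+* F) : Subgroup SL(3, F) := GramSU σ (J3 F)

theorem hu_ext {x y : HU σ} (h : x.1.1 = y.1.1) : x = y := Subtype.ext (Subtype.ext h)

theorem val_mul (x y : HU σ) : (x * y).1.1 = x.1.1 * y.1.1 := rfl

theorem val_one : (1 : HU σ).1.1 = (1 : Matrix (Fin 3) (Fin 3) F) := rfl

/-- The condition on the parameters of a root element. -/
def Ok (σ : F →+* F) (x y : F) : Prop := y + σ y + x * σ x = 0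

/-- A root element. -/
def umat (σ : F →+* F) (x y : F) : Matrix (Fin 3) (Fin 3) F := !![1, -σ x, y; 0, 1, x; 0, 0, 1]

/-- Being a root element with the given parameters. -/
def IsU (M : HU σ) (x y : F) : Prop := M.1.1 = umat σ x y

theorem umat_mul (x y x' y' : F) :
    umat σ x y * umat σ x' y' = umat σ (x + x') (y + y' - σ x * x') := by
  ext i j
  fin_cases i <;> fin_cases j <;>
    simp [umat, Matrix.mul_apply, Fin.sum_univ_three] <;> ring

theorem umat_zero : umat σ 0 0 = 1 := by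
  ext i j
  fin_cases i <;> fin_cases j <;> simp [umat]

theorem IsU.mul {M M' : HU σ} {x y x' y' : F} (h : IsU M x y) (h' : IsU M' x' y') :
    IsU (M * M') (x + x') (y + y' - σ x * x') := by
  rw [IsU, val_mul, h, h', umat_mul]

theorem IsU.one : IsU (1 : HU σ) 0 0 := by rw [IsU, val_one, umat_zero]

theorem IsU.inj {M : HU σ} {x y x' y' : F} (h : IsU M x y) (h' : IsU M x' y') : x = x' ∧ y = y' := by
  have e := h.symm.trans h'
  exact ⟨by simpa [umat] using congrFun (congrFun e 1) 2,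
    by simpa [umat] using congrFun (congrFun e 0) 2⟩

theorem IsU.eq {M M' : HU σ} {x y : F} (h : IsU M x y) (h' : IsU M' x y) : M = M' :=
  hu_ext (h.trans h'.symm)

theorem IsU.eq_one {M : HU σ} (h : IsU M 0 0) : M = 1 := h.eq IsU.one

theorem IsU.ok {M : HU σ} {x y : F} (h : IsU M x y) : Ok σ x y := by
  have e : M.1.1ᵀ * J3 F * M.1.1.map σ = J3 F := M.2
  have := congrFun (congrFun e 2) 2
  rw [h] at this
  simp [umat, J3, Matrix.mul_apply, Fin.sum_univ_three] at this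
  rw [Ok]; linear_combination this

/-- A root element. -/
def uE (hσ : ∀ x, σ (σ x) = x) (x y : F) (h : Ok σ x y) : HU σ :=
  ⟨⟨umat σ x y, by simp [umat, Matrix.det_fin_three]⟩, by
    show (umat σ x y)ᵀ * J3 F * (umat σ x y).map σ = J3 F
    unfold Ok at h
    ext i j
    fin_cases i <;> fin_cases j <;>
      simp [umat, J3, Matrix.mul_apply, Fin.sum_univ_three, hσ] <;> linear_combination h⟩

theorem isU_uE (hσ : ∀ x, σ (σ x) = x) (x y : F) (h : Ok σ x y) : IsU (uE hσ x y h) x y := rfl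

theorem IsU.inv {M : HU σ} (hσ : ∀ x, σ (σ x) = x) {x y : F} (h : IsU M x y) :
    IsU M⁻¹ (-x) (σ y) := by
  have hok : Ok σ (-x) (σ y) := by
    have := h.ok
    unfold Ok at *
    rw [hσ, map_neg]
    linear_combination this
  have e : M * uE hσ (-x) (σ y) hok = 1 := IsU.eq_one (by
    have h2 := h.mul (isU_uE hσ _ _ hok)
    have hk := h.ok
    unfold Ok at hk
    rwa [add_neg_cancel, show y + σ y - σ x * -x = 0 by linear_combination hk] at h2)
  rw [inv_eq_of_mul_eq_one_right e]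
  exact isU_uE hσ _ _ hok

theorem IsU.comm {M M' : HU σ} (hσ : ∀ x, σ (σ x) = x) {x y x' y' : F} (h : IsU M x y)
    (h' : IsU M' x' y') : IsU (M * M' * M⁻¹ * M'⁻¹) 0 (x * σ x' - σ x * x') := by
  have := ((h.mul h').mul (h.inv hσ)).mul (h'.inv hσ)
  have e1 := h.ok
  have e2 := h'.ok
  unfold Ok at e1 e2
  convert this using 1 <;> (try simp only [map_add, map_neg]) <;>
    first | ring1 | linear_combination (-1 : F) * e1 - e2

/-- The torus. -/
def hH (σ : F →+* F) (hσ : ∀ x, σ (σ x) = x) : Fˣ →* HU σ where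
  toFun a := ⟨⟨!![(a : F), 0, 0; 0, σ a / a, 0; 0, 0, (σ a)⁻¹], by
      have : σ (a : F) ≠ 0 := by simp
      simp [Matrix.det_fin_three]
      field_simp⟩, by
    show _ᵀ * J3 F * _ = J3 F
    have : σ (a : F) ≠ 0 := by simp
    ext i j
    fin_cases i <;> fin_cases j <;>
      simp [J3, Matrix.mul_apply, Fin.sum_univ_three, hσ] <;> field_simp⟩
  map_one' := hu_ext (by
    ext i j
    fin_cases i <;> fin_cases j <;> simp)
  map_mul' a b := hu_ext (by
    rw [val_mul]
    ext i j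
    fin_cases i <;> fin_cases j <;>
      simp [Matrix.mul_apply, Fin.sum_univ_three] <;> ring)

theorem val_hH (hσ : ∀ x, σ (σ x) = x) (a : Fˣ) :
    (hH σ hσ a).1.1 = !![(a : F), 0, 0; 0, σ a / a, 0; 0, 0, (σ a)⁻¹] := rfl

/-- The Weyl element. -/
def nW (σ : F →+* F) : HU σ :=
  ⟨⟨!![0, 0, 1; 0, -1, 0; 1, 0, 0], by simp [Matrix.det_fin_three]⟩, by
    show _ᵀ * J3 F * _ = J3 F
    ext i j
    fin_cases i <;> fin_cases j <;> simp [J3, Matrix.mul_apply, Fin.sum_univ_three]⟩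

theorem val_nW : (nW σ).1.1 = (!![0, 0, 1; 0, -1, 0; 1, 0, 0] : Matrix (Fin 3) (Fin 3) F) := rfl

theorem nW_sq : nW σ * nW σ = 1 := hu_ext (by
  rw [val_mul, val_nW, val_one]
  ext i j
  fin_cases i <;> fin_cases j <;> simp [Matrix.mul_apply, Fin.sum_univ_three])

theorem nW_hH (hσ : ∀ x, σ (σ x) = x) (a : Fˣ) :
    nW σ * hH σ hσ a * nW σ = hH σ hσ (Units.map σ.toMonoidHom a)⁻¹ := hu_ext (by
  rw [val_mul, val_mul, val_nW, val_hH, val_hH]
  have : σ (a : F) ≠ 0 := by simp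
  ext i j
  fin_cases i <;> fin_cases j <;>
    simp [Matrix.mul_apply, Fin.sum_univ_three, hσ] <;> field_simp)

theorem IsU.conj (hσ : ∀ x, σ (σ x) = x) {M : HU σ} {x y : F} (h : IsU M x y) (a : Fˣ) :
    IsU (hH σ hσ a * M * (hH σ hσ a)⁻¹) (σ a * σ a / a * x) ((a : F) * σ a * y) := by
  have : σ (a : F) ≠ 0 := by simp
  rw [← map_inv, IsU, val_mul, val_mul, val_hH, val_hH, h]
  ext i j
  fin_cases i <;> fin_cases j <;>
    simp [umat, Matrix.mul_apply, Fin.sum_univ_three, hσ] <;> field_simp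

/-- The decomposition of the conjugate of a root element. -/
theorem bruhat (hσ : ∀ x, σ (σ x) = x) {M M₁ M₂ : HU σ} {x y : F} (hy : y ≠ 0) (h : IsU M x y)
    (h1 : IsU M₁ (-x / y) (1 / y)) (h2 : IsU M₂ (-x / σ y) (1 / y)) :
    nW σ * M * nW σ = M₁ * hH σ hσ (Units.mk0 (σ y) (by simpa using hy))⁻¹ * nW σ * M₂ := hu_ext (by
  have hk := h.ok
  unfold Ok at hk
  have hy' : σ y ≠ 0 := by simpa using hy
  simp only [val_mul, val_nW, val_hH, h1.eq (isU_uE hσ _ _ h1.ok), h2.eq (isU_uE hσ _ _ h2.ok)]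
  rw [show (uE hσ (-x / y) (1 / y) h1.ok).1.1 = umat σ (-x / y) (1 / y) from rfl,
    show (uE hσ (-x / σ y) (1 / y) h2.ok).1.1 = umat σ (-x / σ y) (1 / y) from rfl, h]
  ext i j
  fin_cases i <;> fin_cases j <;>
    simp [umat, Matrix.mul_apply, Fin.sum_univ_three, hσ] <;> field_simp <;>
      first | ring1 | linear_combination hk | linear_combination (-1 : F) * hk)

/-- A product of this shape determines the last root element. -/
theorem right_part (hσ : ∀ x, σ (σ x) = x) {M M₁ M₂ : HU σ} {x y x₁ y₁ x₂ y₂ : F} {a : Fˣ}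
    (h : IsU M x y) (h1 : IsU M₁ x₁ y₁) (h2 : IsU M₂ x₂ y₂)
    (e : nW σ * M * nW σ = M₁ * hH σ hσ a * nW σ * M₂) :
    y ≠ 0 ∧ x₁ = -x / y ∧ y₁ = 1 / y ∧ x₂ = -x / σ y ∧ y₂ = 1 / y := by
  have e' := congrArg (fun N : HU σ => N.1.1) e
  simp only [val_mul, val_nW, val_hH] at e'
  rw [h, h1, h2] at e'
  have c00 := congrFun (congrFun e' 0) 0
  have c10 := congrFun (congrFun e' 1) 0
  have c20 := congrFun (congrFun e' 2) 0
  have c21 := congrFun (congrFun e' 2) 1
  have c22 := congrFun (congrFun e' 2) 2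
  simp [umat, Matrix.mul_apply, Fin.sum_univ_three] at c00 c10 c20 c21 c22
  have ha : σ (a : F) ≠ 0 := by simp
  have hy : y ≠ 0 := by rw [c20]; exact inv_ne_zero ha
  have hy' : σ y ≠ 0 := by simpa using hy
  rw [← c20] at c00 c10 c21 c22
  have h22 : y₂ = 1 / y := by field_simp; linear_combination -c22
  have hx2 : σ x₂ = -σ x / y := by field_simp; linear_combination c21
  have hx2' : x₂ = -x / σ y := by
    have := congrArg σ hx2
    rwa [hσ, map_div₀, map_neg, hσ] at this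
  refine ⟨hy, ?_, ?_, hx2', h22⟩
  · field_simp; linear_combination -c10
  · field_simp; linear_combination -c00

/-- The two cells do not meet. -/
theorem cells_disjoint (hσ : ∀ x, σ (σ x) = x) {M₁ M₂ : HU σ} {x₁ y₁ x₂ y₂ : F} {a : Fˣ}
    (h1 : IsU M₁ x₁ y₁) (h2 : IsU M₂ x₂ y₂) : M₁ * hH σ hσ a * nW σ * M₂ ≠ 1 := by
  intro e
  have e' := congrArg (fun N : HU σ => N.1.1) e
  simp only [val_mul, val_nW, val_hH, val_one] at e'
  rw [h1, h2] at e'
  have c20 := congrFun (congrFun e' 2) 0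
  simp [umat, Matrix.mul_apply, Fin.sum_univ_three] at c20

theorem torus_unip (hσ : ∀ x, σ (σ x) = x) {M : HU σ} {x y : F} {a : Fˣ} (h : IsU M x y)
    (e : M * hH σ hσ a = 1) : M = 1 ∧ hH σ hσ a = 1 := by
  have e' := congrArg (fun N : HU σ => N.1.1) e
  simp only [val_mul, val_hH, val_one] at e'
  rw [h] at e'
  have c00 := congrFun (congrFun e' 0) 0
  simp [umat, Matrix.mul_apply, Fin.sum_univ_three] at c00
  subst c00
  rw [map_one, mul_one] at e
  exact ⟨e, map_one _⟩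

/-- Every element lies in one of the two cells. -/
theorem cells (hσ : ∀ x, σ (σ x) = x) (M : HU σ) :
    ∃ (x y : F) (h : Ok σ x y) (a : Fˣ), M = uE hσ x y h * hH σ hσ a ∨
      ∃ (x' y' : F) (h' : Ok σ x' y'), M = uE hσ x y h * hH σ hσ a * nW σ * uE hσ x' y' h' := by
  have upper : ∀ M : HU σ, M.1.1 2 0 = 0 →
      ∃ (x y : F) (h : Ok σ x y) (a : Fˣ), M = uE hσ x y h * hH σ hσ a := by
    intro M h20
    have e : M.1.1ᵀ * J3 F * M.1.1.map σ = J3 F := M.2
    have ent := fun i j => congrFun (congrFun e i) j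
    have e00 := ent 0 0
    have e01 := ent 0 1
    have e02 := ent 0 2
    have e11 := ent 1 1
    have e12 := ent 1 2
    have e22 := ent 2 2
    simp [J3, Matrix.mul_apply, Fin.sum_univ_three, h20] at e00 e01 e02 e11 e12 e22
    have h10 : M.1.1 1 0 = 0 := e00
    rw [h10] at e01 e02
    simp at e01 e02
    have hd := M.1.2
    rw [Matrix.det_fin_three, h20, h10] at hd
    have hc : M.1.1 0 0 ≠ 0 := fun h0 => by rw [h0] at e02; simp at e02
    have h21 : M.1.1 2 1 = 0 := e01.resolve_left hc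
    rw [h21] at e11 e12 hd
    simp at e11 e12 hd
    obtain ⟨c, hcdef⟩ : ∃ c, c = M.1.1 0 0 := ⟨_, rfl⟩
    rw [← hcdef] at e02 hd hc
    have hsc : σ c ≠ 0 := by simpa using hc
    have h33 : M.1.1 2 2 = (σ c)⁻¹ := by
      have := congrArg σ e02
      rw [map_mul, hσ, map_one] at this
      exact eq_inv_of_mul_eq_one_right this
    rw [h33] at hd e12 e22
    have h22 : M.1.1 1 1 = σ c / c := by field_simp at hd ⊢; linear_combination hd
    rw [h22] at e12
    simp [hσ] at e12 e22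
    obtain ⟨x, hxdef⟩ : ∃ x, x = M.1.1 1 2 * σ c := ⟨_, rfl⟩
    obtain ⟨y, hydef⟩ : ∃ y, y = M.1.1 0 2 * σ c := ⟨_, rfl⟩
    have hok : Ok σ x y := by
      rw [Ok, hxdef, hydef, map_mul, map_mul, hσ]
      field_simp at e22
      linear_combination e22
    have h12 : M.1.1 0 1 = -σ x * (σ c / c) := by
      rw [hxdef, map_mul, hσ]
      field_simp at e12 ⊢
      linear_combination e12
    refine ⟨x, y, hok, Units.mk0 c hc, hu_ext ?_⟩
    rw [val_mul, val_hH, show (uE hσ x y hok).1.1 = umat σ x y from rfl]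
    ext i j
    fin_cases i <;> fin_cases j <;>
      simp [umat, Matrix.mul_apply, Fin.sum_univ_three, ← hcdef, h10, h20, h21, h22, h33, h12]
    · rw [hydef]; field_simp
    · rw [hxdef]; field_simp
  by_cases h20 : M.1.1 2 0 = 0
  · obtain ⟨x, y, h, a, e⟩ := upper M h20
    exact ⟨x, y, h, a, Or.inl e⟩
  obtain ⟨c, hcdef⟩ : ∃ c, c = M.1.1 2 0 := ⟨_, rfl⟩
  rw [← hcdef] at h20
  have hc' : σ c ≠ 0 := by simpa using h20
  have e : M.1.1ᵀ * J3 F * M.1.1.map σ = J3 F := M.2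
  have e00 := congrFun (congrFun e 0) 0
  simp [J3, Matrix.mul_apply, Fin.sum_univ_three, ← hcdef] at e00
  have hok : Ok σ (M.1.1 1 0 / c) (M.1.1 0 0 / c) := by
    rw [Ok, map_div₀, map_div₀]
    field_simp
    linear_combination e00
  obtain ⟨g, hg⟩ : ∃ g, g = nW σ * (uE hσ _ _ hok)⁻¹ * M := ⟨_, rfl⟩
  have hg20 : g.1.1 2 0 = 0 := by
    have hinv := (isU_uE hσ _ _ hok).inv hσ
    rw [hg, val_mul, val_mul, val_nW, hinv]
    simp [umat, Matrix.mul_apply, Fin.sum_univ_three, ← hcdef]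
    field_simp
    linear_combination e00
  obtain ⟨x', y', hok', a, he⟩ := upper g hg20
  obtain ⟨N, hN⟩ : ∃ N, N = (hH σ hσ a)⁻¹ * uE hσ x' y' hok' * hH σ hσ a := ⟨_, rfl⟩
  have hNU := (isU_uE hσ x' y' hok').conj hσ a⁻¹
  rw [map_inv, inv_inv, ← hN] at hNU
  refine ⟨_, _, hok, (Units.map σ.toMonoidHom a)⁻¹, Or.inr ⟨_, _, hNU.ok, ?_⟩⟩
  rw [(isU_uE hσ _ _ hNU.ok).eq hNU, ← nW_hH hσ a, hN]
  have eM : M = uE hσ _ _ hok * nW σ * g := by
    rw [hg]
    simp only [← mul_assoc, mul_assoc _ (nW σ) (nW σ), nW_sq, mul_one, mul_inv_cancel, one_mul]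
  refine eM.trans ?_
  rw [he]
  simp only [← mul_assoc, mul_assoc _ (nW σ) (nW σ), nW_sq, mul_one, mul_inv_cancel_right]

/-- The isomorphism with the group of the standard form. -/
theorem exists_iso [Finite F] (hF : Nat.card F = q ^ 2) (h : UFrob σ q) :
    Nonempty (HU σ ≃* Cfsg.SU 3 F q) := by
  obtain ⟨a, ha⟩ := exists_pow_succ_eq hF (c := -1) (by rw [← h.pow, map_neg, map_one])
  rw [pow_succ', ← h.pow] at ha
  have : Nontrivial (normOne F q) := by
    rw [← Finite.one_lt_card_iff_nontrivial, card_normOne hF]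
    have := two_le_q hF
    omega
  obtain ⟨⟨μu, hμu⟩, hne⟩ := exists_ne (1 : normOne F q)
  obtain ⟨μ, hμ⟩ : ∃ μ : F, μ = μu := ⟨_, rfl⟩
  have hμN : μ * σ μ = 1 := by
    have : (μu : F) ^ (q + 1) = 1 := congrArg Units.val (MonoidHom.mem_ker.1 hμu)
    rwa [pow_succ', ← h.pow, ← hμ] at this
  have hμ1 : μ ≠ 1 := fun e => hne (Subtype.ext (Units.ext (by rw [← hμ, e]; rfl)))
  obtain ⟨r, hr⟩ : ∃ r : F, σ r * (1 - σ μ) = 1 := by
    refine ⟨σ (1 - σ μ)⁻¹, ?_⟩
    rw [h.invol, inv_mul_cancel₀]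
    intro e
    apply hμ1
    rw [← h.invol μ, ← sub_eq_zero.1 e, map_one]
  have hr' : r * (1 - μ) = 1 := by
    have := congrArg σ hr
    simpa [h.invol] using this
  refine iso_of_frame h (P := !![1, 0, r; a, 0, μ * a * r; 0, 1, 0]) ?_ ?_
  · ext i j
    fin_cases i <;> fin_cases j <;>
      simp [J3, Matrix.mul_apply, Fin.sum_univ_three] <;> grobner
  · simp [J3, Matrix.det_fin_three]

end CfsgLib.Pres.SU.Rank1
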