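import Cfsg.Agent.Lib.Pres.SU.Rank1.Main

/-!
The scalars exist: `SU 3` has a presentation with three generators and at most twenty-three
relations when the field of definition has at least three elements.
-/

set_option autoImplicit false

namespace CfsgLib.Pres.SU.Rank1

open Matrix Polynomial CfsgLib.Classical CfsgLib.Classical.Unitary
open scoped MatrixGroups

variable {F : Type*} [Field F] {σ : F →+* F} {q : ℕ}

theorem closure_powers {a : F} (h : ∀ t : F, ∃ f : ℤ[X], aeval a f = t) :
    AddSubgroup.closure (Set.range fun i : ℕ => a ^ i) = ⊤ := by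
  refine (AddSubgroup.eq_top_iff' _).2 fun t => ?_
  obtain ⟨f, rfl⟩ := h t
  induction f using Polynomial.induction_on' with
  | add f g hf hg => rw [map_add]; exact add_mem hf hg
  | monomial n c =>
    rw [aeval_monomial, eq_intCast, ← zsmul_eq_mul]
    exact zsmul_mem (AddSubgroup.subset_closure (Set.mem_range_self n)) c

theorem exists_par [Finite F] (hF : Nat.card F = q ^ 2) (h : UFrob σ q) :
    ∃ (P : Par σ) (ξ : Fˣ), orderOf P.ω = q ^ 2 - 1 ∧ (ξ : F) * σ ξ = 1 ∧ orderOf ξ = q + 1 := by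
  have hq := two_le_q hF
  obtain ⟨ω, hω'⟩ := IsCyclic.exists_monoid_generator (α := Fˣ)
  have hω : ∀ c : Fˣ, ∃ i : ℕ, ω ^ i = c := fun c => Submonoid.mem_powers_iff _ _ |>.1 (hω' c)
  have hord : orderOf ω = q ^ 2 - 1 := by
    rw [orderOf_eq_card_of_forall_mem_zpowers fun c => by
      obtain ⟨i, rfl⟩ := hω c; exact ⟨i, zpow_natCast ω i⟩, card_units_field, hF]
  obtain ⟨c₀, hc0, hskew⟩ := exists_skew h
  obtain ⟨⟨ξ, hξm⟩, hξ'⟩ := IsCyclic.exists_monoid_generator (α := normOne F q)
  have mem : ∀ c : Fˣ, c ∈ normOne F q ↔ (c : F) * σ c = 1 := fun c => by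
    rw [h.pow, ← pow_succ']
    exact ⟨fun e => congrArg Units.val (MonoidHom.mem_ker.1 e),
      fun e => MonoidHom.mem_ker.2 (Units.ext e)⟩
  have hξN : (ξ : F) * σ ξ = 1 := (mem ξ).1 hξm
  have hgen : ∀ c : F, c * σ c = 1 → ∃ k : ℕ, c = (ξ : F) ^ k := fun c hc => by
    obtain ⟨i, hi⟩ := Submonoid.mem_powers_iff _ _ |>.1
      (hξ' ⟨Units.mk0 c (left_ne_zero_of_mul_eq_one hc), (mem _).2 hc⟩)
    refine ⟨i, ?_⟩
    have := congrArg (fun v : normOne F q => ((v : Fˣ) : F)) hi
    simpa using this.symm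
  have hξord : orderOf ξ = q + 1 := by
    rw [← card_normOne hF, ← orderOf_eq_card_of_forall_mem_zpowers
      (g := (⟨ξ, hξm⟩ : normOne F q)) fun c => by
        obtain ⟨i, rfl⟩ := Submonoid.mem_powers_iff _ _ |>.1 (hξ' c); exact ⟨i, zpow_natCast _ i⟩]
    exact (Subgroup.orderOf_coe (⟨ξ, hξm⟩ : normOne F q)).symm ▸ rfl
  have hξ1 : (ξ : F) - 1 ≠ 0 := by
    intro e
    have : ξ = 1 := Units.ext (sub_eq_zero.1 e)
    rw [this, orderOf_one] at hξord
    omega
  have hsξ : σ (ξ : F) = (ξ : F)⁻¹ := eq_inv_of_mul_eq_one_right hξN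
  have hξ0 : (ξ : F) ≠ 0 := ξ.ne_zero
  obtain ⟨y₀, hy₀⟩ : ∃ y₀, y₀ = -(ξ : F) / ((ξ : F) - 1) := ⟨_, rfl⟩
  have hsy : σ y₀ = 1 / ((ξ : F) - 1) := by
    rw [hy₀, map_div₀, map_neg, map_sub, map_one, hsξ]
    have : (1 : F) - ξ ≠ 0 := by rwa [← neg_sub, neg_ne_zero]
    field_simp
    ring
  refine ⟨{
    hσ := h.invol
    ω := ω
    hω := hω
    hω' := fun t ht ht0 => by
      obtain ⟨y, hy⟩ := exists_pow_succ_eq hF (c := t) (by rw [← h.pow, ht])
      rw [pow_succ', ← h.pow] at hy
      obtain ⟨i, hi⟩ := hω (Units.mk0 y fun e => ht0 (by rw [← hy, e, zero_mul]))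
      refine ⟨i, ?_⟩
      have : (ω : F) ^ i = y := by simpa using congrArg Units.val hi
      rw [mul_pow, ← map_pow, this, hy]
    hωσ := fun e => h.ne (RingHom.ext fun x => by
      rcases eq_or_ne x 0 with rfl | hx
      · simp
      · obtain ⟨i, hi⟩ := hω (Units.mk0 x hx)
        have : (ω : F) ^ i = x := by simpa using congrArg Units.val hi
        rw [← this, map_pow, e, map_pow, RingHom.id_apply])
    δ := c₀
    hδ := by linear_combination hskew
    hδ0 := hc0
    y₀ := y₀
    ok0 := by rw [Ok, hsy, hy₀, map_one]; field_simp; ring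
    hg := fun c hc => by
      rw [show -y₀ / σ y₀ = (ξ : F) by rw [hsy, hy₀]; field_simp]
      exact hgen c hc }, ξ, hord, hξN, hξord⟩

theorem fixed_pow_mul {a : F} {n : ℕ} (h : a ^ n = a) : ∀ k : ℕ, a ^ n ^ k = a
  | 0 => by simp
  | k + 1 => by rw [pow_succ, pow_mul, fixed_pow_mul h k, h]

/-- The presentation of the three dimensional group. -/
theorem exists_three [Finite F] (hF : Nat.card F = q ^ 2) (hq : 3 ≤ q) :
    ∃ (g : Fin 3 → Cfsg.SU 3 F q) (L : List (FreeGroup (Fin 3))), L.length ≤ 23 ∧ PresData g L := by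
  obtain ⟨σ, h⟩ := exists_uFrob hF
  obtain ⟨P, ξ, hωord, hξN, hξord⟩ := exists_par hF h
  obtain ⟨p, hp'⟩ := CharP.exists F
  have : Fact p.Prime := ⟨CharP.char_is_prime F p⟩
  have hp2 := (Fact.out : p.Prime).two_le
  have : Fintype F := Fintype.ofFinite F
  obtain ⟨⟨e, he0⟩, -, he⟩ := FiniteField.card F p
  rw [← Nat.card_eq_fintype_card] at he
  change Nat.card F = p ^ e at he
  obtain ⟨f, -, hf⟩ := (Nat.dvd_prime_pow (Fact.out : p.Prime)).1
    (show q ∣ p ^ e by rw [← he, hF]; exact dvd_pow_self q two_ne_zero)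
  have hef : e = 2 * f := Nat.pow_right_injective hp2 (by
    show p ^ e = p ^ (2 * f)
    rw [← he, hF, hf, ← pow_mul, mul_comm])
  -- the multiplier of the torus generates the field
  have hω0 : (P.ω : F) ≠ 0 := P.ω.ne_zero
  have hμ : ∀ t : F, ∃ g : ℤ[X], aeval (mult σ P.ω) g = t := by
    rcases FieldSquares.fixed_or_surj p he (mult σ P.ω) with hs | ⟨d, hd1, hd2, hd⟩
    · exact hs
    exfalso
    have hdq : p ^ d ≤ q := by
      rw [hf]; exact Nat.pow_le_pow_right (by omega) (by omega)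
    have hpd : 2 ≤ p ^ d := le_trans hp2 (Nat.le_self_pow (by omega) p)
    obtain ⟨o, ho⟩ : ∃ o, o = p ^ d - 1 := ⟨_, rfl⟩
    have h1 : mult σ P.ω ^ o = 1 := by
      have : mult σ P.ω ^ o * mult σ P.ω = 1 * mult σ P.ω := by
        rw [← pow_succ, one_mul, ho, Nat.sub_add_cancel (by omega), hd]
      exact mul_right_cancel₀ (mult_ne_zero σ P.ω) this
    have h2 : P.ω ^ ((2 * q - 1) * o) = 1 := Units.ext (by
      rw [pow_mul, Units.val_pow_eq_pow_val, Units.val_pow_eq_pow_val, Units.val_one,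
        show (P.ω : F) ^ (2 * q - 1) = mult σ P.ω by
          rw [mult, h.pow, eq_div_iff hω0, ← pow_succ, ← pow_add]; congr 1; omega]
      exact h1)
    have h3 : (q ^ 2 - 1) ∣ (2 * q - 1) * o := hωord ▸ orderOf_dvd_of_pow_eq_one h2
    have hq2 : q * 1 ≤ q ^ 2 := by rw [sq]; exact Nat.mul_le_mul_left q (by omega)
    have h4 : (q ^ 2 - 1) ∣ 3 * o := by
      have h5 : 3 * o + 4 * (q ^ 2 - 1) * o = (2 * q + 1) * ((2 * q - 1) * o) := by
        have : (2 * q + 1) * (2 * q - 1) = 3 + 4 * (q ^ 2 - 1) := by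
          zify [show 1 ≤ 2 * q by omega, show 1 ≤ q ^ 2 by omega]; ring
        rw [← mul_assoc, this]; ring
      refine (Nat.dvd_add_left ?_).1 (h5 ▸ dvd_mul_of_dvd_right h3 _)
      exact dvd_mul_of_dvd_left (dvd_mul_left _ 4) o
    have h6 := Nat.le_of_dvd (by omega) h4
    have h7 : 3 * q + 1 ≤ q ^ 2 + 1 := by rw [sq]; nlinarith
    omega
  have hI : AddSubgroup.closure ((fun i : ℕ => mult σ P.ω ^ i) '' Set.univ) = ⊤ := by
    rw [Set.image_univ]; exact closure_powers hμ
  -- the two ways to the commutation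
  have hξ0 : (ξ : F) ≠ 0 := ξ.ne_zero
  have hsξ : σ (ξ : F) = (ξ : F)⁻¹ := eq_inv_of_mul_eq_one_right hξN
  have hex : ∀ zw, IsU (FreeGroup.lift P.f zw) 0 P.δ → P.HasExtra zw := by
    rcases FieldSquares.fixed_or_surj p he (mult σ ξ) with hs | ⟨d, hd1, hd2, hd⟩
    · have ha1 : mult σ ξ ≠ 1 := by
        intro e1
        refine h.ne (RingHom.ext fun x => ?_)
        obtain ⟨g, rfl⟩ := hs x
        rw [e1, show (1 : F) = algebraMap ℤ F 1 by simp, aeval_algebraMap_apply, RingHom.id_apply]
        simp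
      have hc0 : (1 - mult σ ξ) * (ξ : F) ^ 2 ≠ 0 :=
        mul_ne_zero (sub_ne_zero.2 (Ne.symm ha1)) (pow_ne_zero _ hξ0)
      refine fun zw hzw => P.hasExtra_norm hzw ξ hξN (closure_powers hs)
        ⟨Units.mk0 _ hc0, ?_⟩
      have hm : mult σ ξ = (ξ : F)⁻¹ ^ 3 := by rw [mult, hsξ]; field_simp
      have hne : (1 : F) - (ξ : F)⁻¹ ^ 3 ≠ 0 := by rw [← hm]; exact sub_ne_zero.2 (Ne.symm ha1)
      show σ _ * σ _ / _ = _
      simp only [Units.val_mk0, hm, map_mul, map_sub, map_one, map_pow, map_inv₀, hsξ, inv_inv]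
      have hne3 : (ξ : F) ^ 3 - 1 ≠ 0 := fun e3 => hne (by rw [inv_pow, sub_eq_zero.1 e3]; simp)
      have hne3' : -1 + (ξ : F) ^ 3 ≠ 0 := by rwa [neg_add_eq_sub]
      field_simp
      ring
    · have hd' : d ≤ f := by omega
      obtain ⟨a, ha⟩ : ∃ a, a = ξ⁻¹ ^ 3 := ⟨_, rfl⟩
      have hm : mult σ ξ = (a : F) := by
        rw [ha, mult, hsξ, Units.val_pow_eq_pow_val, Units.val_inv_eq_inv_val]; field_simp
      rw [hm] at hd
      have had : a ^ p ^ d = a := Units.ext (by rw [Units.val_pow_eq_pow_val]; exact hd)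
      have haq : a ^ (q + 1) = 1 := by
        rw [ha, ← pow_mul, mul_comm, pow_mul, inv_pow, ← hξord, pow_orderOf_eq_one, inv_one,
          one_pow]
      have har : a ^ (p ^ (f % d) + 1) = 1 := by
        have e1 : a ^ p ^ (f / d * d) = a := by
          clear haq
          induction f / d with
          | zero => simp
          | succ k ih => rw [Nat.succ_mul, pow_add, pow_mul, ih, had]
        have e2 : a ^ q = a ^ p ^ (f % d) := by
          rw [hf]
          conv_lhs => rw [← Nat.div_add_mod f d, mul_comm d, pow_add, pow_mul, e1]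
        rw [pow_succ, ← e2, ← pow_succ, haq]
      have hdiv : q + 1 ∣ 3 * (p ^ (f % d) + 1) := by
        rw [← hξord]
        refine orderOf_dvd_of_pow_eq_one (inv_eq_one.1 ?_)
        rw [← inv_pow, pow_mul, ← ha, har]
      have hq58 : q = 5 ∨ q = 8 := by
        rcases Nat.eq_zero_or_pos (f % d) with hr | hr
        · rw [hr, pow_zero] at hdiv
          norm_num at hdiv
          have := Nat.le_of_dvd (by norm_num) hdiv
          have h3' : q + 1 = 4 ∨ q + 1 = 5 ∨ q + 1 = 6 := by omega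
          rcases h3' with e | e | e <;> rw [e] at hdiv <;> first | (left; omega) | norm_num at hdiv
        · have hle := Nat.le_of_dvd (Nat.mul_pos (by norm_num) (Nat.succ_pos _)) hdiv
          have hlt := Nat.mod_lt f (show d > 0 by omega)
          have hdf : d < f := by
            rcases Nat.lt_or_eq_of_le hd' with h' | h'
            · exact h'
            · rw [h', Nat.mod_self] at hr; omega
          have hP : p ^ (f % d) * p ^ 2 ≤ q := by
            rw [hf, ← pow_add]; exact Nat.pow_le_pow_right (by omega) (by omega)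
          have hP2 : 2 ≤ p ^ (f % d) := le_trans hp2 (Nat.le_self_pow (by omega) p)
          rcases Nat.lt_or_ge p 3 with hp3 | hp3
          · have hpe : p = 2 := by omega
            subst hpe
            have hP' : 2 ^ (f % d) = 2 := by
              norm_num at hP; omega
            right
            norm_num at hP
            omega
          · exfalso
            have : p ^ (f % d) * 9 ≤ p ^ (f % d) * p ^ 2 :=
              Nat.mul_le_mul_left _ (by calc 9 = 3 ^ 2 := by norm_num
                _ ≤ p ^ 2 := Nat.pow_le_pow_left hp3 2)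
            omega
      have he6 : e ≤ 6 := by
        by_contra h7
        have h8 : p ^ 4 ≤ q := by
          rw [hf]; exact Nat.pow_le_pow_right (by omega) (by omega)
        have h16 : 2 ^ 4 ≤ p ^ 4 := Nat.pow_le_pow_left hp2 4
        norm_num at h16
        omega
      refine fun zw hzw => P.hasExtra_six hzw ?_
      rw [eq_top_iff]
      intro t _
      let _ : Algebra (ZMod p) F := ZMod.algebra F p
      obtain ⟨g, rfl⟩ := hμ t
      rw [← aeval_map_algebraMap (ZMod p) (mult σ P.ω) g,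
        ← modByMonic_add_div (g.map (algebraMap ℤ (ZMod p))) (minpoly (ZMod p) (mult σ P.ω)),
        map_add, map_mul, minpoly.aeval, zero_mul, add_zero]
      obtain ⟨r, hr⟩ : ∃ r, r = g.map (algebraMap ℤ (ZMod p)) %ₘ minpoly (ZMod p) (mult σ P.ω) :=
        ⟨_, rfl⟩
      rw [← hr]
      have hfin : Module.finrank (ZMod p) F = e := by
        have := Module.natCard_eq_pow_finrank (K := ZMod p) (V := F)
        rw [Nat.card_zmod, he] at this
        exact (Nat.pow_right_injective hp2 this).symm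
      have hint : IsIntegral (ZMod p) (mult σ P.ω) := IsIntegral.of_finite _ _
      have hdeg : r.natDegree < 6 := by
        have h1 := natDegree_modByMonic_lt (g.map (algebraMap ℤ (ZMod p))) (minpoly.monic hint)
          (minpoly.ne_one _ _)
        rw [← hr] at h1
        have h2 := minpoly.natDegree_le (A := ZMod p) (mult σ P.ω)
        omega
      rw [aeval_eq_sum_range' hdeg]
      refine sum_mem fun i hi => ?_
      rw [Algebra.smul_def, show r.coeff i = ((r.coeff i).val : ZMod p) from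
        (ZMod.natCast_zmod_val _).symm, map_natCast, ← nsmul_eq_mul]
      exact nsmul_mem (AddSubgroup.subset_closure
        (Set.mem_image_of_mem (fun i : ℕ => mult σ P.ω ^ i)
          (show i ∈ {i : ℕ | i < 6} from Finset.mem_range.1 hi))) _
  obtain ⟨L, hL, hd⟩ := P.exists_pres p hI hex
  obtain ⟨iso⟩ := exists_iso hF h
  exact ⟨_, L, hL, hd.map iso⟩

end CfsgLib.Pres.SU.Rank1
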