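import Cfsg.Agent.Lib.Pres.SU.Rank1.Cells
import Cfsg.Agent.Lib.Pres.SU.Rank1.Central

/-!
Words in three generators and their values in the unitary group.
-/

set_option autoImplicit false

namespace CfsgLib.Pres.SU.Rank1

open Matrix Polynomial CfsgLib.Classical CfsgLib.Classical.Unitary
open scoped MatrixGroups commutatorElement

variable {F : Type*} [Field F] {σ : F →+* F}

/-- The scalars. -/
structure Par (σ : F →+* F) where
  hσ : ∀ x, σ (σ x) = x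
  ω : Fˣ
  hω : ∀ c : Fˣ, ∃ i : ℕ, ω ^ i = c
  hω' : ∀ t : F, σ t = t → t ≠ 0 → ∃ i : ℕ, t = ((ω : F) * σ ω) ^ i
  hωσ : σ (ω : F) ≠ ω
  δ : F
  hδ : σ δ = -δ
  hδ0 : δ ≠ 0
  y₀ : F
  ok0 : Ok σ 1 y₀
  hg : ∀ c : F, c * σ c = 1 → ∃ k : ℕ, c = (-y₀ / σ y₀) ^ k

/-- The root generator. -/
def Uw : FreeGroup (Fin 3) := FreeGroup.of 0

/-- The torus generator. -/
def Hw : FreeGroup (Fin 3) := FreeGroup.of 1

/-- The Weyl generator. -/
def Nw : FreeGroup (Fin 3) := FreeGroup.of 2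

/-- The conjugates of the root generator. -/
def cw (i : ℕ) : FreeGroup (Fin 3) := Hw ^ i * Uw * (Hw ^ i)⁻¹

theorem lift_cw {Y : Type*} [Group Y] (x : Fin 3 → Y) (i : ℕ) :
    FreeGroup.lift x (cw i) = x 1 ^ i * x 0 * (x 1 ^ i)⁻¹ := by simp [cw, Uw, Hw]

theorem zpow_isU (hσ : ∀ x, σ (σ x) = x) {M : HU σ} {x y : F} (h : IsU M x y) :
    ∀ c : ℤ, ∃ y', IsU (M ^ c) ((c : F) * x) y' := by
  intro c
  induction c using Int.induction_on with
  | zero => exact ⟨0, by rw [zpow_zero, Int.cast_zero, zero_mul]; exact IsU.one⟩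
  | succ n ih =>
    obtain ⟨y', e⟩ := ih
    have h2 := e.mul h
    rw [show ((n : ℤ) : F) * x + x = (((n : ℤ) + 1 : ℤ) : F) * x by push_cast; ring] at h2
    exact ⟨_, by rw [_root_.zpow_add, zpow_one]; exact h2⟩
  | pred n ih =>
    obtain ⟨y', e⟩ := ih
    have h2 := e.mul (h.inv hσ)
    rw [show ((-(n : ℤ) : ℤ) : F) * x + -x = ((-(n : ℤ) - 1 : ℤ) : F) * x by push_cast; ring] at h2
    exact ⟨_, by rw [_root_.zpow_sub, zpow_one]; exact h2⟩

namespace Par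

variable (P : Par σ)

/-- The generators. -/
def f : Fin 3 → HU σ := ![uE P.hσ 1 P.y₀ P.ok0, hH σ P.hσ P.ω, nW σ]

theorem f0 : IsU (P.f 0) 1 P.y₀ := rfl

theorem f1 : P.f 1 = hH σ P.hσ P.ω := rfl

theorem f2 : P.f 2 = nW σ := rfl

theorem isU_conj {M : HU σ} {x y : F} (h : IsU M x y) (i : ℕ) :
    IsU (P.f 1 ^ i * M * (P.f 1 ^ i)⁻¹) (mult σ P.ω ^ i * x) (((P.ω : F) * σ P.ω) ^ i * y) := by
  have := h.conj P.hσ (P.ω ^ i)
  rw [map_pow, ← P.f1] at this
  convert this using 1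
  · rw [← mult_pow, mult]
  · rw [mul_pow, Units.val_pow_eq_pow_val, map_pow]

theorem isU_cw (i : ℕ) :
    IsU (FreeGroup.lift P.f (cw i)) (mult σ P.ω ^ i) (((P.ω : F) * σ P.ω) ^ i * P.y₀) := by
  rw [lift_cw]
  simpa using P.isU_conj P.f0 i

theorem fixed_pow (i : ℕ) : σ (((P.ω : F) * σ P.ω) ^ i) = ((P.ω : F) * σ P.ω) ^ i := by
  rw [map_pow, map_mul, P.hσ, mul_comm]

/-- Conjugates whose multipliers span the field generate all root elements. -/
theorem mem_conjsOn {I : Set ℕ}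
    (hI : AddSubgroup.closure ((fun i : ℕ => mult σ P.ω ^ i) '' I) = ⊤) {M : HU σ} {x y : F}
    (hM : IsU M x y) : M ∈ conjsOn (P.f 1) (P.f 0) I := by
  have hx : ∀ x : F, ∃ M ∈ conjsOn (P.f 1) (P.f 0) I, ∃ y, IsU M x y := by
    intro x
    have : x ∈ AddSubgroup.closure ((fun i : ℕ => mult σ P.ω ^ i) '' I) := by rw [hI]; trivial
    refine AddSubgroup.closure_induction
      (p := fun x _ => ∃ M ∈ conjsOn (P.f 1) (P.f 0) I, ∃ y, IsU M x y) ?_ ?_ ?_ ?_ this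
    · rintro _ ⟨i, hi, rfl⟩
      exact ⟨_, Subgroup.subset_closure ⟨i, hi, rfl⟩, _, by simpa using P.isU_conj P.f0 i⟩
    · exact ⟨1, one_mem _, 0, IsU.one⟩
    · rintro a b _ _ ⟨M, hM, _, e⟩ ⟨M', hM', _, e'⟩
      exact ⟨_, mul_mem hM hM', _, e.mul e'⟩
    · rintro a _ ⟨M, hM, _, e⟩
      exact ⟨_, inv_mem hM, _, e.inv P.hσ⟩
  have hz : ∀ t : F, σ t = -t → ∃ M ∈ conjsOn (P.f 1) (P.f 0) I, IsU M 0 t := by
    intro t ht
    have hd : (P.ω : F) - σ P.ω ≠ 0 := sub_ne_zero.2 (Ne.symm P.hωσ)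
    obtain ⟨r, hr⟩ : ∃ r, r = t / ((P.ω : F) - σ P.ω) := ⟨_, rfl⟩
    have hrs : σ r = r := by
      rw [hr, map_div₀, map_sub, P.hσ, ht, ← neg_sub (P.ω : F) (σ P.ω), neg_div_neg_eq]
    obtain ⟨A, hA, _, eA⟩ := hx P.ω
    obtain ⟨B, hB, _, eB⟩ := hx r
    refine ⟨_, mul_mem (mul_mem (mul_mem hA hB) (inv_mem hA)) (inv_mem hB), ?_⟩
    convert eA.comm P.hσ eB using 1
    rw [hrs, ← sub_mul, hr, mul_div_cancel₀ _ hd]
  obtain ⟨A, hA, y', eA⟩ := hx x
  have e1 := hM.ok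
  have e2 := eA.ok
  unfold Ok at e1 e2
  obtain ⟨B, hB, eB⟩ := hz (y - y') (by rw [map_sub]; linear_combination e1 - e2)
  have e := eA.mul eB
  rw [add_zero, mul_zero, sub_zero, add_sub_cancel] at e
  rw [hM.eq e]
  exact mul_mem hA hB

theorem exists_cword {I : Set ℕ}
    (hI : AddSubgroup.closure ((fun i : ℕ => mult σ P.ω ^ i) '' I) = ⊤) {M : HU σ} {x y : F}
    (hM : IsU M x y) :
    ∃ v : FreeGroup (Fin 3), FreeGroup.lift P.f v = M ∧
      ∀ (X : Type) [Group X] (g : Fin 3 → X), FreeGroup.lift g v ∈ conjsOn (g 1) (g 0) I := by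
  obtain ⟨v, hv, e⟩ : M ∈ (Subgroup.closure (cw '' I)).map (FreeGroup.lift P.f) := by
    rw [MonoidHom.map_closure, Set.image_image]
    simp only [lift_cw]
    exact P.mem_conjsOn hI hM
  refine ⟨v, e, fun X _ g => ?_⟩
  have : FreeGroup.lift g v ∈ (Subgroup.closure (cw '' I)).map (FreeGroup.lift g) := ⟨v, hv, rfl⟩
  rw [MonoidHom.map_closure, Set.image_image] at this
  simpa [lift_cw, conjsOn] using this

/-- A realisation of the central family. -/
structure Real (zw : FreeGroup (Fin 3)) {X : Type} [Group X] (g : Fin 3 → X) (a : F → X) :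
    Prop where
  one : a 1 = FreeGroup.lift g zw
  add : ∀ s t, σ s = s → σ t = t → a s * a t = a (s + t)
  conj : ∀ t, σ t = t → g 1 * a t * (g 1)⁻¹ = a ((P.ω : F) * σ P.ω * t)

variable {P}

theorem Real.pow {zw : FreeGroup (Fin 3)} {X : Type} [Group X] {g : Fin 3 → X} {a : F → X}
    (R : P.Real zw g a) (i : ℕ) :
    a (((P.ω : F) * σ P.ω) ^ i) = g 1 ^ i * FreeGroup.lift g zw * (g 1 ^ i)⁻¹ := by
  induction i with
  | zero => simp [R.one]
  | succ i ih =>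
    rw [pow_succ' ((P.ω : F) * σ P.ω) i, ← R.conj _ (P.fixed_pow i), ih, pow_succ']
    group

variable (P)

/-- The relation saying that an element is in the central family. -/
theorem exists_zrel {zw : FreeGroup (Fin 3)} (hzw : IsU (FreeGroup.lift P.f zw) 0 P.δ)
    (w : FreeGroup (Fin 3)) {y : F} (hw : IsU (FreeGroup.lift P.f w) 0 y) :
    ∃ r, FreeGroup.lift P.f r = 1 ∧ ∀ (X : Type) [Group X] (g : Fin 3 → X) (a : F → X),
      P.Real zw g a → FreeGroup.lift g r = 1 → ∃ t, σ t = t ∧ FreeGroup.lift g w = a t := by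
  rcases eq_or_ne y 0 with rfl | hy
  · refine ⟨w, hw.eq_one, fun X _ g a R e => ⟨0, map_zero σ, ?_⟩⟩
    have := R.add 0 0 (map_zero σ) (map_zero σ)
    rw [add_zero, mul_eq_left] at this
    rw [e, this]
  have hok := hw.ok
  unfold Ok at hok
  have hd := P.hδ0
  have hfix : σ (y / P.δ) = y / P.δ := by
    rw [map_div₀, P.hδ, div_neg, ← neg_div]
    congr 1
    simp at hok
    linear_combination -hok
  obtain ⟨i, hi⟩ := P.hω' _ hfix (div_ne_zero hy hd)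
  refine ⟨w * (Hw ^ i * zw * (Hw ^ i)⁻¹)⁻¹, ?_, fun X _ g a R e => ?_⟩
  · rw [map_mul, map_inv, mul_inv_eq_one, map_mul, map_mul, map_inv, map_pow]
    simp only [Hw, FreeGroup.lift_apply_of]
    refine hw.eq ?_
    have := P.isU_conj hzw i
    rwa [mul_zero, ← hi, div_mul_cancel₀ _ hd] at this
  · refine ⟨_, P.fixed_pow i, ?_⟩
    rw [R.pow]
    rw [map_mul, map_inv, mul_inv_eq_one] at e
    simpa [Hw] using e

/-- The relation for the cell of a conjugate by the Weyl element. -/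
theorem exists_cellrel (hI : AddSubgroup.closure ((fun i : ℕ => mult σ P.ω ^ i) '' Set.univ) = ⊤)
    (w : FreeGroup (Fin 3)) {x y : F} (hw : IsU (FreeGroup.lift P.f w) x y) (hy : y ≠ 0) :
    ∃ r, FreeGroup.lift P.f r = 1 ∧ ∀ (X : Type) [Group X] (g : Fin 3 → X),
      FreeGroup.lift g r = 1 →
        g 2 * FreeGroup.lift g w * g 2 ∈ Cell (g 1) (g 0) (g 2) := by
  have hy' : σ y ≠ 0 := by simpa using hy
  have hk := hw.ok
  unfold Ok at hk
  have ok1 : Ok σ (-x / y) (1 / y) := by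
    rw [Ok, map_div₀, map_div₀, map_one, map_neg]
    field_simp
    linear_combination hk
  have ok2 : Ok σ (-x / σ y) (1 / y) := by
    rw [Ok, map_div₀, map_div₀, map_one, map_neg, P.hσ]
    field_simp
    linear_combination hk
  obtain ⟨v₁, e1, m1⟩ := P.exists_cword hI (isU_uE P.hσ _ _ ok1)
  obtain ⟨v₂, e2, m2⟩ := P.exists_cword hI (isU_uE P.hσ _ _ ok2)
  obtain ⟨i, hi⟩ := P.hω (Units.mk0 (σ y) hy')⁻¹
  refine ⟨Nw * w * Nw * (v₁ * Hw ^ i * Nw * v₂)⁻¹, ?_, fun X _ g e => ?_⟩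
  · rw [map_mul, map_inv, mul_inv_eq_one]
    simp only [Nw, Hw, map_mul, map_pow, FreeGroup.lift_apply_of, e1, e2, P.f1, P.f2]
    rw [← map_pow (hH σ P.hσ), hi]
    exact bruhat P.hσ hy hw (isU_uE P.hσ _ _ ok1) (isU_uE P.hσ _ _ ok2)
  · rw [map_mul, map_inv, mul_inv_eq_one] at e
    simp only [Nw, Hw, map_mul, map_pow, FreeGroup.lift_apply_of] at e
    rw [e]
    have key : ∀ {v}, v ∈ conjsOn (g 1) (g 0) Set.univ → v ∈ conjs (g 1) (g 0) := fun {v} hv => by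
      rw [conjsOn, Set.image_univ] at hv
      exact hv
    exact ⟨_, key (m1 X g), i, _, key (m2 X g), rfl⟩

end Par

end CfsgLib.Pres.SU.Rank1
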